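import Groth.Agent.L08.CST.Refl
import Mathlib.RingTheory.Flat.Basic
import Mathlib.LinearAlgebra.DFinsupp

/-!
# Chevalley's lemma: polynomials are free over the invariants of a reflection group scheme
-/

set_option autoImplicit false
set_option linter.unusedSectionVars false

universe u

open TensorProduct MvPolynomial

noncomputable section

namespace Groth.L08.CST

open Groth.L08

section Homogeneous

variable {k : Type u} [CommRing k] {ι : Type u}

theorem isHomogeneous_comp (d : ℕ) (f : MvPolynomial ι k) : (homogeneousComponent d f).IsHomogeneous d :=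
  homogeneousComponent_isHomogeneous d f

/-- components of a product with a homogeneous factor -/
theorem comp_mul_of_homogeneous {p : MvPolynomial ι k} {m : ℕ} (hp : p.IsHomogeneous m) (q : MvPolynomial ι k) (d : ℕ) :
    homogeneousComponent d (p * q) = if m ≤ d then p * homogeneousComponent (d - m) q else 0 := by
  classical
  conv_lhs => rw [← sum_homogeneousComponent q, Finset.mul_sum, map_sum]
  have h : ∀ e, homogeneousComponent d (p * homogeneousComponent e q) =
      if d = m + e then p * homogeneousComponent e q else 0 := fun e =>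
    homogeneousComponent_of_mem (hp.mul (isHomogeneous_comp e q))
  simp only [h]
  split_ifs with hmd
  · rw [Finset.sum_congr rfl (g := fun e => if d - m = e then p * homogeneousComponent e q else 0) fun e _ => by
      congr 1; apply propext; omega]
    rw [Finset.sum_ite_eq]
    split_ifs with he
    · rfl
    · rw [homogeneousComponent_eq_zero _ _ (by rw [Finset.mem_range] at he; omega), mul_zero]
  · exact Finset.sum_eq_zero fun e _ => if_neg (by omega)

end Homogeneous

variable {k : Type u} [Field k] {A : Type u} [CommRing A] [HopfAlgebra k A]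
  {ι : Type u} [Fintype ι] [HopfRep.Comod k A (MvPolynomial ι k)] [GLin.IsCoactAlg k A (MvPolynomial ι k)]

local notation "S" => MvPolynomial ι k
local notation "B" => GLin.invariants k A (MvPolynomial ι k)

/-- the Hilbert ideal: generated by homogeneous invariants of positive degree -/
def hilb (k : Type u) [Field k] (A : Type u) [CommRing A] [HopfAlgebra k A] (ι : Type u)
    [HopfRep.Comod k A (MvPolynomial ι k)] [GLin.IsCoactAlg k A (MvPolynomial ι k)] : Ideal (MvPolynomial ι k) :=
  Ideal.span {f | f ∈ GLin.invariants k A (MvPolynomial ι k) ∧ ∃ d, 0 < d ∧ f.IsHomogeneous d}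

theorem isSubcomod_hilb : HopfRep.IsSubcomod (k := k) (A := A) ((hilb k A ι).restrictScalars k) :=
  FreeOrbitPt.isSubcomod_span_fixed fun _ hf => hf.1

theorem comp_mem_invariants (hlin : GLin.IsLinear k A ι) {f : S} (hf : f ∈ B) (d : ℕ) :
    homogeneousComponent d f ∈ B := by
  classical
  have hsub := fun e => isSubcomod_homogeneousSubmodule (lin_range hlin) e
  have hnat : ∀ g : S, (homogeneousComponent d).rTensor A (HopfRep.Comod.coact (k := k) (A := A) g) =
      HopfRep.Comod.coact (k := k) (A := A) (homogeneousComponent d g) := by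
    intro g
    conv_lhs => rw [← sum_homogeneousComponent g, map_sum, map_sum]
    conv_rhs => rw [← sum_homogeneousComponent g, map_sum, map_sum]
    refine Finset.sum_congr rfl fun e _ => ?_
    obtain ⟨y, hy⟩ := hsub e _ (isHomogeneous_comp e g)
    rw [← hy, ← LinearMap.rTensor_comp_apply, homogeneousComponent_of_mem (isHomogeneous_comp e g)]
    have h1 : homogeneousComponent d ∘ₗ (homogeneousSubmodule ι k e).subtype =
        if d = e then (homogeneousSubmodule ι k e).subtype else 0 := by
      refine LinearMap.ext fun w => ?_
      rw [LinearMap.comp_apply, Submodule.subtype_apply, homogeneousComponent_of_mem w.2]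
      split_ifs <;> rfl
    rw [h1]
    split_ifs with h
    · exact hy
    · rw [LinearMap.rTensor_zero, LinearMap.zero_apply, map_zero]
  show HopfRep.Comod.coact (k := k) (A := A) (homogeneousComponent d f) = _
  rw [← hnat, show HopfRep.Comod.coact (k := k) (A := A) f = f ⊗ₜ[k] (1 : A) from hf, LinearMap.rTensor_tmul]

theorem comp_zero_eq_C (f : S) : homogeneousComponent 0 f = C (constantCoeff f) := homogeneousComponent_zero f

theorem invariant_sub_C_mem_hilb (hlin : GLin.IsLinear k A ι) {f : S} (hf : f ∈ B) :
    f - C (constantCoeff f) ∈ hilb k A ι := by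
  classical
  rw [← comp_zero_eq_C]
  rw [show f - homogeneousComponent 0 f = ∑ e ∈ Finset.range f.totalDegree, homogeneousComponent (e + 1) f from by
    conv_lhs => arg 1; rw [← sum_homogeneousComponent f]
    rw [Finset.sum_range_succ', add_sub_cancel_right]]
  exact sum_mem fun e _ => Ideal.subset_span ⟨comp_mem_invariants hlin hf _, e + 1, e.succ_pos, isHomogeneous_comp _ _⟩

/-- homogeneous components stay in the Hilbert ideal -/
theorem comp_mem_hilb {f : S} (hf : f ∈ hilb k A ι) (d : ℕ) : homogeneousComponent d f ∈ hilb k A ι := by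
  classical
  induction hf using Submodule.span_induction generalizing d with
  | mem g hg =>
    obtain ⟨hgB, e, he, hge⟩ := hg
    rw [homogeneousComponent_of_mem hge]
    split_ifs
    · exact Ideal.subset_span ⟨hgB, e, he, hge⟩
    · exact zero_mem _
  | zero => simp
  | add a b _ _ ha hb => rw [map_add]; exact add_mem (ha d) (hb d)
  | smul r g hg ih =>
    rw [smul_eq_mul, ← sum_homogeneousComponent g, Finset.mul_sum, map_sum]
    refine sum_mem fun e _ => ?_
    rw [mul_comm, comp_mul_of_homogeneous (isHomogeneous_comp e g)]
    split_ifs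
    · exact Ideal.mul_mem_right _ _ (ih e)
    · exact zero_mem _

variable (hlin : GLin.IsLinear k A ι) (hG : HopfRep.IsLinearlyReductive k A)
  (hsub : ∀ (I : Ideal A) [I.IsHopfIdeal k], HopfRep.IsLinearlyReductive k (A ⧸ I))
  (hgen : GLin.IsGenByPseudoRefl k A ι)

include hlin hG hsub hgen

/-- Chevalley's lemma. -/
theorem mem_hilb_of_relation : ∀ (d : ℕ) {σ : Type u} [DecidableEq σ] (s : Finset σ) (h p : σ → S) (j₀ : σ),
    (∀ j ∈ s, h j ∈ B) → j₀ ∈ s → ∑ j ∈ s, h j * p j = 0 → (p j₀).IsHomogeneous d →
    h j₀ ∉ Ideal.span (h '' ↑(s.erase j₀)) → p j₀ ∈ hilb k A ι := by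
  classical
  obtain ⟨α, hα⟩ := exists_isIntegral hG
  intro d
  induction d with
  | zero =>
    intro σ _ s h p j₀ _ hj hsum hp hni
    have hp0 : p j₀ = C (constantCoeff (p j₀)) := by
      rw [← comp_zero_eq_C, homogeneousComponent_of_mem hp, if_pos rfl]
    by_cases hc : constantCoeff (p j₀) = 0
    · rw [hp0, hc, map_zero]; exact zero_mem _
    exfalso
    refine hni ?_
    rw [← Finset.add_sum_erase s _ hj] at hsum
    have hu : IsUnit (p j₀) := by rw [hp0]; exact (isUnit_iff_ne_zero.2 hc).map _
    have hmem : h j₀ * p j₀ ∈ Ideal.span (h '' ↑(s.erase j₀)) := by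
      rw [eq_neg_of_add_eq_zero_left hsum]
      exact neg_mem (sum_mem fun j hj' => Ideal.mul_mem_right _ _ (Ideal.subset_span ⟨j, hj', rfl⟩))
    exact (Ideal.unit_mul_mem_iff_mem _ hu).1 (by rwa [mul_comm])
  | succ d ih =>
    intro σ _ s h p j₀ hB hj hsum hp hni
    have hfix := mem_range_of_fixed_refl hgen ((hilb k A ι).restrictScalars k) isSubcomod_hilb (p j₀)
      fun I hI φ => ?_
    · obtain ⟨z, hz⟩ := hfix
      have hrey : rey S α (p j₀) - p j₀ ∈ hilb k A ι := by
        have e : rey S α (p j₀) - p j₀ = TensorProduct.rid k S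
            ((α ∘ₗ HopfAlgebraStruct.antipode (R := k)).lTensor S
              (HopfRep.Comod.coact (k := k) (A := A) (p j₀) - p j₀ ⊗ₜ[k] (1 : A))) := by
          rw [map_sub, map_sub, ← rey_apply, LinearMap.lTensor_tmul, LinearMap.comp_apply,
            HopfAlgebra.antipode_one, hα.2, TensorProduct.rid_tmul, one_smul]
        rw [e, ← hz]
        clear e hz
        induction z with
        | zero => simp
        | add a b ha hb => simp only [map_add]; exact add_mem ha hb
        | tmul a b =>
          simp only [LinearMap.rTensor_tmul, LinearMap.lTensor_tmul, TensorProduct.rid_tmul]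
          exact Submodule.smul_of_tower_mem _ _ a.2
      have hhom : (rey S α (p j₀)).IsHomogeneous (d + 1) :=
        rey_mem_of_isSubcomod (isSubcomod_homogeneousSubmodule (lin_range hlin) (d + 1)) α hp
      have hmem : rey S α (p j₀) ∈ hilb k A ι :=
        Ideal.subset_span ⟨hα.rey_mem _, d + 1, d.succ_pos, hhom⟩
      simpa using sub_mem hmem hrey
    haveI := hI.1
    obtain ⟨l, hl, hl0, hD⟩ := exists_refl_form hlin I (hsub I) hI.2
    choose D hD using hD
    let T : S →ₗ[k] S := (TensorProduct.rid k S).toLinearMap ∘ₗ φ.lTensor S ∘ₗ dif I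
    let Dφ : S → S := fun f => TensorProduct.rid k S (φ.lTensor S (D f))
    have hTD : ∀ f, T f = l * Dφ f := fun f => by
      show TensorProduct.rid k S (φ.lTensor S (dif I f)) = _
      rw [hD]
      simp only [Dφ]
      induction D f with
      | zero => simp
      | add a b ha hb => simp only [mul_add, map_add, ha, hb]
      | tmul a b => simp
    have hTB : ∀ b ∈ B, ∀ f, T (b * f) = b * T f := fun b hb f => by
      show TensorProduct.rid k S (φ.lTensor S (dif I (b * f))) = b * TensorProduct.rid k S (φ.lTensor S (dif I f))
      rw [dif_apply, dif_apply, GLin.IsCoactAlg.coact_mul,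
        show HopfRep.Comod.coact (k := k) (A := A) b = b ⊗ₜ[k] (1 : A) from hb]
      simp only [map_sub, mul_sub, LinearMap.lTensor_tmul, TensorProduct.rid_tmul]
      congr 1
      · induction HopfRep.Comod.coact (k := k) (A := A) f with
        | zero => simp
        | add a c ha hc => simp only [mul_add, map_add, ha, hc]
        | tmul a c => simp
      · rw [mul_smul_comm]
    have hrel : ∑ j ∈ s, h j * Dφ (p j) = 0 := by
      have h1 : l * ∑ j ∈ s, h j * Dφ (p j) = 0 := by
        rw [Finset.mul_sum, Finset.sum_congr rfl fun j hjs => show l * (h j * Dφ (p j)) = T (h j * p j) by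
          rw [hTB _ (hB j hjs), hTD]; ring, ← map_sum, hsum, map_zero]
      exact (mul_eq_zero.1 h1).resolve_left hl0
    have hhomT : (T (p j₀)).IsHomogeneous (d + 1) := by
      obtain ⟨y, hy⟩ := isSubcomod_homogeneousSubmodule (lin_range hlin) (d + 1) _ hp
      show TensorProduct.rid k S (φ.lTensor S (dif I (p j₀))) ∈ homogeneousSubmodule ι k (d + 1)
      rw [dif_apply, map_sub, map_sub]
      refine sub_mem ?_ ?_
      · rw [← hy]
        clear hy
        induction y with
        | zero => simp
        | add a c ha hc => simp only [map_add]; exact add_mem ha hc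
        | tmul a c =>
          simp only [LinearMap.rTensor_tmul, LinearMap.lTensor_tmul, TensorProduct.rid_tmul]
          exact Submodule.smul_mem _ _ a.2
      · rw [LinearMap.lTensor_tmul, TensorProduct.rid_tmul]
        exact Submodule.smul_mem _ _ hp
    have hDhom : (Dφ (p j₀)).IsHomogeneous d := by
      have h1 : l * homogeneousComponent d (Dφ (p j₀)) = l * Dφ (p j₀) := by
        rw [← hTD]
        have h2 := comp_mul_of_homogeneous hl (Dφ (p j₀)) (d + 1)
        rw [if_pos (by omega), Nat.add_sub_cancel, ← hTD, homogeneousComponent_of_mem hhomT, if_pos rfl] at h2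
        exact h2.symm
      rw [← mul_left_cancel₀ hl0 h1]
      exact isHomogeneous_comp _ _
    show TensorProduct.rid k S (φ.lTensor S (dif I (p j₀))) ∈ hilb k A ι
    rw [show TensorProduct.rid k S (φ.lTensor S (dif I (p j₀))) = T (p j₀) from rfl, hTD]
    exact Ideal.mul_mem_left _ _ (ih s h (fun j => Dφ (p j)) j₀ hB hj hrel hDhom hni)

/-- A relation over invariants between homogeneous polynomials independent modulo the Hilbert ideal is trivial. -/
theorem relation_eq_zero_homogeneous {σ : Type u} [DecidableEq σ] : ∀ (s : Finset σ) (D : ℕ) (dg : σ → ℕ) (h p : σ → S),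
    (∀ j ∈ s, h j ∈ B ∧ (h j).IsHomogeneous (D - dg j) ∧ dg j ≤ D ∧ (p j).IsHomogeneous (dg j)) →
    (∀ c : σ → k, ∑ j ∈ s, c j • p j ∈ hilb k A ι → ∀ j ∈ s, c j = 0) →
    ∑ j ∈ s, h j * p j = 0 → ∀ j ∈ s, h j = 0 := by
  classical
  obtain ⟨α, hα⟩ := exists_isIntegral hG
  intro s
  induction s using Finset.strongInduction with
  | _ s ih =>
    intro D dg h p hyp hind hsum j₁ hj₁
    by_contra hne
    let s' := s.filter fun j => h j ≠ 0
    by_cases hss : s' = s
    · by_cases hni : h j₁ ∈ Ideal.span (h '' ↑(s.erase j₁))
      · obtain ⟨c, hc⟩ := (Submodule.mem_span_image_finset_iff_exists_fun (R := S)).1 hni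
        let e : σ → ℕ := fun j => D - dg j
        let c' : σ → S := fun j => if hj : j ∈ s.erase j₁ then
          (if e j ≤ e j₁ then homogeneousComponent (e j₁ - e j) (rey S α (c ⟨j, hj⟩)) else 0) else 0
        have hc' : h j₁ = ∑ j ∈ s.erase j₁, h j * c' j := by
          have h0 := congrArg (rey S α) hc
          rw [hα.rey_eq (hyp j₁ hj₁).1, map_sum] at h0
          have h1 := congrArg (homogeneousComponent (e j₁)) h0
          rw [homogeneousComponent_of_mem (hyp j₁ hj₁).2.1, if_pos rfl, map_sum] at h1
          rw [← h1, ← Finset.sum_coe_sort (s.erase j₁)]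
          refine Finset.sum_congr rfl fun j _ => ?_
          have hjB := hyp j.1 (Finset.mem_of_mem_erase j.2)
          rw [smul_eq_mul, rey_mul_fixed α _ hjB.1, mul_comm, comp_mul_of_homogeneous hjB.2.1]
          simp only [c', dif_pos j.2, e]
          split_ifs <;> simp
        let p' : σ → S := fun j => p j + c' j * p j₁
        have hchom : ∀ j ∈ s.erase j₁, c' j ∈ B ∧ (c' j * p j₁).IsHomogeneous (dg j) := fun j hj => by
          simp only [c', dif_pos hj]
          split_ifs with hle
          · refine ⟨comp_mem_invariants hlin (hα.rey_mem _) _, ?_⟩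
            have := (isHomogeneous_comp (e j₁ - e j) (rey S α (c ⟨j, hj⟩))).mul (hyp j₁ hj₁).2.2.2
            obtain ⟨-, -, hd, -⟩ := hyp j (Finset.mem_of_mem_erase hj)
            obtain ⟨-, -, hd₁, -⟩ := hyp j₁ hj₁
            rwa [show e j₁ - e j + dg j₁ = dg j from by simp only [e] at hle ⊢; omega] at this
          · exact ⟨zero_mem _, by rw [zero_mul]; exact isHomogeneous_zero ι k _⟩
        have hsum' : ∑ j ∈ s.erase j₁, h j * p' j = 0 := by
          rw [← hsum, ← Finset.add_sum_erase s _ hj₁, hc', Finset.sum_mul, ← Finset.sum_add_distrib]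
          refine Finset.sum_congr rfl fun j _ => ?_
          simp only [p']; ring
        have hind' : ∀ a : σ → k, ∑ j ∈ s.erase j₁, a j • p' j ∈ hilb k A ι → ∀ j ∈ s.erase j₁, a j = 0 := by
          intro a ha
          let b := ∑ j ∈ s.erase j₁, a j * constantCoeff (c' j)
          have hmem : ∑ j ∈ s, (Function.update a j₁ b) j • p j ∈ hilb k A ι := by
            have hdiff : ∑ j ∈ s.erase j₁, a j • ((c' j - C (constantCoeff (c' j))) * p j₁) ∈ hilb k A ι :=
              sum_mem fun j hj => Submodule.smul_of_tower_mem _ _
                (Ideal.mul_mem_right _ _ (invariant_sub_C_mem_hilb hlin (hchom j hj).1))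
            have := sub_mem ha hdiff
            convert this using 1
            rw [← Finset.add_sum_erase s _ hj₁, Function.update_self, ← Finset.sum_sub_distrib,
              Finset.sum_smul, ← Finset.sum_add_distrib]
            refine Finset.sum_congr rfl fun j hj => ?_
            rw [Function.update_of_ne (Finset.ne_of_mem_erase hj), mul_smul, ← smul_sub]
            simp only [p', MvPolynomial.smul_eq_C_mul]
            ring
          intro j hj
          have := hind _ hmem j (Finset.mem_of_mem_erase hj)
          rwa [Function.update_of_ne (Finset.ne_of_mem_erase hj)] at this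
        have hall := ih (s.erase j₁) (Finset.erase_ssubset hj₁) D dg h p' (fun j hj => by
          obtain ⟨a1, a2, a3, a4⟩ := hyp j (Finset.mem_of_mem_erase hj)
          exact ⟨a1, a2, a3, a4.add (hchom j hj).2⟩) hind' hsum'
        exact hne (hc'.trans (Finset.sum_eq_zero fun j hj => by rw [hall j hj, zero_mul]))
      · have hp := mem_hilb_of_relation hlin hG hsub hgen (dg j₁) s h p j₁ (fun j hj => (hyp j hj).1) hj₁ hsum
          (hyp j₁ hj₁).2.2.2 hni
        have := hind (fun j => if j = j₁ then 1 else 0) (by simpa [hj₁] using hp) j₁ hj₁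
        simp at this
    · have hlt : s' ⊂ s := lt_of_le_of_ne (Finset.filter_subset _ _) hss
      have hres := ih s' hlt D dg h p (fun j hj => hyp j (Finset.mem_filter.1 hj).1) (fun c hc j hj => by
        let c₁ : σ → k := fun i => if i ∈ s' then c i else 0
        have := hind c₁ (by
          rw [← Finset.sum_subset (Finset.filter_subset _ _ : s' ⊆ s) fun i _ hi => by rw [show c₁ i = 0 from if_neg hi, zero_smul]]
          convert hc using 1
          exact Finset.sum_congr rfl fun i hi => by simp only [c₁]; rw [if_pos hi]) j (Finset.mem_filter.1 hj).1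
        simpa [c₁, hj] using this) (by
          rw [← hsum]
          exact Finset.sum_subset (Finset.filter_subset _ _) fun i hi hi' => by
            have : h i = 0 := by simpa [s', hi] using hi'
            rw [this, zero_mul])
      exact hne (hres j₁ (Finset.mem_filter.2 ⟨hj₁, hne⟩))

omit hlin hG hsub hgen in
/-- Homogeneous polynomials forming a basis modulo the Hilbert ideal. -/
theorem exists_adapted_basis :
    ∃ (τ : Type u) (dg : τ → ℕ) (p : τ → S), (∀ j, (p j).IsHomogeneous (dg j)) ∧
      (∀ (s : Finset τ) (c : τ → k), ∑ j ∈ s, c j • p j ∈ hilb k A ι → ∀ j ∈ s, c j = 0) ∧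
      (∀ (d : ℕ) (f : S), f.IsHomogeneous d → ∃ g ∈ Submodule.span k (Set.range p),
        g.IsHomogeneous d ∧ f - g ∈ hilb k A ι) := by
  classical
  let N : Submodule k S := (hilb k A ι).restrictScalars k
  let Q : ℕ → Submodule k (S ⧸ N) := fun d => (homogeneousSubmodule ι k d).map N.mkQ
  let τ : Type u := Σ d : ℕ, Module.Basis.ofVectorSpaceIndex k (Q d)
  have hex : ∀ j : τ, ∃ f : S, f.IsHomogeneous j.1 ∧ N.mkQ f = (Module.Basis.ofVectorSpace k (Q j.1) j.2 : Q j.1).1 :=
    fun j => (Module.Basis.ofVectorSpace k (Q j.1) j.2).2
  choose p hp hpq using hex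
  refine ⟨τ, fun j => j.1, p, hp, fun s c hc j hj => ?_, fun d f hf => ?_⟩
  · obtain ⟨d, i⟩ := j
    let t := (s.filter fun j => j.1 = d)
    have h1 : N.mkQ (homogeneousComponent d (∑ j ∈ s, c j • p j)) = 0 :=
      (Submodule.Quotient.mk_eq_zero N).2 (comp_mem_hilb hc d)
    rw [map_sum] at h1
    have h2 : ∑ j ∈ s, homogeneousComponent d (c j • p j) = ∑ j ∈ t, c j • p j := by
      rw [Finset.sum_filter]
      refine Finset.sum_congr rfl fun j _ => ?_
      rw [map_smul, homogeneousComponent_of_mem (hp j)]
      by_cases hjd : j.1 = d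
      · rw [if_pos hjd, if_pos hjd.symm]
      · rw [if_neg hjd, if_neg (Ne.symm hjd), smul_zero]
    rw [h2, map_sum] at h1
    let emb : Module.Basis.ofVectorSpaceIndex k (Q d) → τ := fun i => ⟨d, i⟩
    have hinj : Function.Injective emb := fun a b h => by cases h; rfl
    let u : Finset (Module.Basis.ofVectorSpaceIndex k (Q d)) := s.preimage emb hinj.injOn
    have h3 : ∑ i ∈ u, c (emb i) • (Module.Basis.ofVectorSpace k (Q d) i) = 0 := by
      apply Subtype.ext
      refine Eq.trans ?_ h1
      rw [AddSubmonoidClass.coe_finsetSum, Finset.sum_filter]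
      refine Eq.trans ?_ (Finset.sum_preimage emb s hinj.injOn _ fun j _ hj' => ?_)
      · refine Finset.sum_congr rfl fun i _ => ?_
        rw [if_pos rfl, map_smul, hpq (emb i)]
        rfl
      · rw [if_neg]
        rintro rfl
        exact hj' ⟨j.2, rfl⟩
    exact linearIndependent_iff'.1 (Module.Basis.ofVectorSpace k (Q d)).linearIndependent u
      (fun i => c (emb i)) h3 i (Finset.mem_preimage.2 hj)
  · let v : Q d := ⟨N.mkQ f, f, hf, rfl⟩
    let b := Module.Basis.ofVectorSpace k (Q d)
    let g := ∑ i ∈ (b.repr v).support, (b.repr v) i • p ⟨d, i⟩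
    refine ⟨g, sum_mem fun i _ => Submodule.smul_mem _ _ (Submodule.subset_span ⟨⟨d, i⟩, rfl⟩),
      (homogeneousSubmodule ι k d).sum_mem fun i _ => Submodule.smul_mem _ _ (hp ⟨d, i⟩), ?_⟩
    refine (Submodule.Quotient.mk_eq_zero N).1 ?_
    show N.mkQ (f - g) = 0
    rw [map_sub, sub_eq_zero, map_sum]
    have h := congrArg Subtype.val (b.linearCombination_repr v)
    rw [Finsupp.linearCombination_apply, Finsupp.sum, AddSubmonoidClass.coe_finsetSum] at h
    refine h.symm.trans (Finset.sum_congr rfl fun i _ => ?_)
    rw [map_smul, hpq ⟨d, i⟩]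
    rfl

/-- Polynomials are flat over the invariants. -/
theorem flat_invariants : Module.Flat B S := by
  classical
  obtain ⟨τ, dg, p, hphom, hindep, hcls⟩ := exists_adapted_basis (k := k) (A := A) (ι := ι)
  have hspan : ∀ (d : ℕ) (f : S), f.IsHomogeneous d → f ∈ Submodule.span B (Set.range p) := by
    intro d
    induction d using Nat.strong_induction_on with
    | _ d ih =>
      intro f hf
      obtain ⟨g, hg, hgd, hz⟩ := hcls d f hf
      rw [← sub_add_cancel f g]
      refine add_mem ?_ ?_
      · have hcl : ∀ g ∈ hilb k A ι, homogeneousComponent d g ∈ Submodule.span B (Set.range p) := by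
          intro g hg
          induction hg using Submodule.span_induction with
          | mem b hb =>
            obtain ⟨hbB, e, he, hbe⟩ := hb
            rw [homogeneousComponent_of_mem hbe]
            split_ifs with hde
            · rw [← mul_one b]
              exact Submodule.smul_mem _ (⟨b, hbB⟩ : B) (ih 0 (by omega) 1 (isHomogeneous_one ι k))
            · exact zero_mem _
          | zero => simp
          | add a b _ _ ha hb => rw [map_add]; exact add_mem ha hb
          | smul r g hg hIH =>
            clear hIH
            rw [smul_eq_mul]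
            induction hg using Submodule.span_induction generalizing r with
            | mem b hb =>
              obtain ⟨hbB, e, he, hbe⟩ := hb
              rw [mul_comm, comp_mul_of_homogeneous hbe]
              split_ifs with hde
              · exact Submodule.smul_mem _ (⟨b, hbB⟩ : B) (ih (d - e) (by omega) _ (isHomogeneous_comp _ _))
              · exact zero_mem _
            | zero => simp
            | add a b _ _ ha hb => rw [mul_add, map_add]; exact add_mem (ha r) (hb r)
            | smul r' g _ ih' => rw [smul_eq_mul, ← mul_assoc]; exact ih' (r * r')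
        have := hcl _ hz
        rwa [map_sub, homogeneousComponent_of_mem hf, if_pos rfl, homogeneousComponent_of_mem hgd, if_pos rfl] at this
      · exact Submodule.span_le_restrictScalars k B (Set.range p) hg
  have hli : LinearIndependent B p := by
    rw [linearIndependent_iff']
    intro s g hg i hi
    have hfun : ∀ D : ℕ, homogeneousComponent (D) (g i : S) = 0 := by
      intro e
      let D := e + dg i
      let hh : τ → S := fun j => if dg j ≤ D then homogeneousComponent (D - dg j) (g j : S) else 0
      let s₁ := s.filter fun j => dg j ≤ D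
      have hrel : ∑ j ∈ s₁, hh j * p j = 0 := by
        have h0 := congrArg (homogeneousComponent D) hg
        rw [map_sum, map_zero] at h0
        rw [← h0, Finset.sum_filter]
        refine Finset.sum_congr rfl fun j _ => ?_
        rw [Algebra.smul_def, show algebraMap B S (g j) = (g j : S) from rfl, mul_comm (g j : S),
          comp_mul_of_homogeneous (hphom j)]
        simp only [hh]
        split_ifs <;> ring
      have h := relation_eq_zero_homogeneous hlin hG hsub hgen s₁ D dg hh p (fun j hj => by
        have hle := (Finset.mem_filter.1 hj).2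
        simp only [hh, if_pos hle]
        exact ⟨comp_mem_invariants hlin (g j).2 _, isHomogeneous_comp _ _, hle, hphom j⟩)
        (fun c hc => hindep s₁ c hc) hrel i (Finset.mem_filter.2 ⟨hi, by omega⟩)
      simp only [hh, D] at h
      rwa [if_pos (by omega), Nat.add_sub_cancel] at h
    apply Subtype.ext
    rw [← sum_homogeneousComponent (g i : S)]
    exact Finset.sum_eq_zero fun e _ => hfun e
  have htop : ⊤ ≤ Submodule.span B (Set.range p) := fun f _ => by
    rw [← sum_homogeneousComponent f]
    exact sum_mem fun e _ => hspan e _ (isHomogeneous_comp _ _)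
  haveI : Module.Free B S := Module.Free.of_basis (Module.Basis.mk hli htop)
  infer_instance

end Groth.L08.CST
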