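import Groth.Agent.L08.CST.Chevalley
import Groth.Agent.L08.FinScheme
import Groth.Agent.S0565
import Groth.Agent.S5763
import Mathlib.RingTheory.RegularLocalRing.Polynomial
import Mathlib.RingTheory.RingHom.Flat
import Mathlib.RingTheory.KrullDimension.Polynomial
import Mathlib.RingTheory.KrullDimension.NonZeroDivisors
import Mathlib.RingTheory.Ideal.Height

/-!
# Invariants of a finite linearly reductive group scheme generated by pseudo-reflections are polynomial
-/

set_option autoImplicit false
set_option linter.unusedSectionVars false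

universe u

open TensorProduct MvPolynomial

noncomputable section

namespace Groth.L08.CST

open Groth.L08

variable {k : Type u} [Field k] {A : Type u} [CommRing A] [HopfAlgebra k A]
  {ι : Type u} [Fintype ι] [HopfRep.Comod k A (MvPolynomial ι k)] [GLin.IsCoactAlg k A (MvPolynomial ι k)]

local notation "S" => MvPolynomial ι k
local notation "B" => GLin.invariants k A (MvPolynomial ι k)

/-- the maximal ideal of invariants without constant term -/
def irr (k : Type u) [Field k] (A : Type u) [CommRing A] [HopfAlgebra k A] (ι : Type u)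
    [HopfRep.Comod k A (MvPolynomial ι k)] [GLin.IsCoactAlg k A (MvPolynomial ι k)] :
    Ideal (GLin.invariants k A (MvPolynomial ι k)) :=
  (RingHom.ker (constantCoeff (R := k) (σ := ι))).comap
    (algebraMap (GLin.invariants k A (MvPolynomial ι k)) (MvPolynomial ι k))

theorem mem_irr {f : B} : f ∈ irr k A ι ↔ constantCoeff (f : S) = 0 := Iff.rfl

theorem isPrime_ker : (RingHom.ker (constantCoeff (R := k) (σ := ι))).IsPrime := RingHom.ker_isPrime _

instance : (irr k A ι).IsPrime :=
  haveI := isPrime_ker (k := k) (ι := ι)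
  Ideal.comap_isPrime _ _

theorem algebraMap_invariants (c : k) : ((algebraMap k B c : B) : S) = C c := rfl

theorem isRegularLocalRing_irr [Module.Finite k A] (hG : HopfRep.IsLinearlyReductive k A) [Module.Flat B S] :
    IsRegularLocalRing (Localization.AtPrime (irr k A ι)) := by
  let M := RingHom.ker (constantCoeff (R := k) (σ := ι))
  haveI : M.IsPrime := isPrime_ker
  haveI := isNoetherianRing_invariants (R := S) hG
  let f := Localization.localRingHom (irr k A ι) M (algebraMap B S) rfl
  letI := f.toAlgebra
  haveI : Module.Flat (Localization.AtPrime (irr k A ι)) (Localization.AtPrime M) :=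
    RingHom.Flat.localRingHom (RingHom.flat_algebraMap_iff.2 inferInstance) _ _ rfl
  haveI : IsLocalHom (algebraMap (Localization.AtPrime (irr k A ι)) (Localization.AtPrime M)) :=
    Localization.isLocalHom_localRingHom _ _ _ rfl
  exact Groth.Agent.S0565.result _ (Localization.AtPrime M)

theorem ringKrullDim_invariants [Module.Finite k A] : ringKrullDim B = Nat.card ι := by
  haveI := Groth.L08.FinScheme.isIntegral k A S
  rw [← (Groth.Agent.S5763.result B S).2 Subtype.val_injective, MvPolynomial.ringKrullDim_of_isNoetherianRing,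
    ringKrullDim_eq_zero_of_field, zero_add]

/-- At a maximal ideal of height at most `d` with regular local ring, `d` elements span modulo the square. -/
theorem exists_span_of_regular {R : Type u} [CommRing R] (n : Ideal R) [n.IsMaximal]
    [IsRegularLocalRing (Localization.AtPrime n)] (d : ℕ) (hd : n.height ≤ d) :
    ∃ T : Finset R, T.card ≤ d ∧ (∀ t ∈ T, t ∈ n) ∧ n ≤ Ideal.span (T : Set R) ⊔ n ^ 2 := by
  classical
  obtain ⟨s, hs, hspan⟩ := Submodule.FG.exists_span_finset_card_eq_spanFinrank
    (IsNoetherian.noetherian (IsLocalRing.maximalIdeal (Localization.AtPrime n)))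
  have hcard : s.card ≤ d := by
    have h2 : ((IsLocalRing.maximalIdeal (Localization.AtPrime n)).spanFinrank : WithBot ℕ∞) =
        ringKrullDim (Localization.AtPrime n) := IsRegularLocalRing.spanFinrank_maximalIdeal
    rw [IsLocalization.AtPrime.ringKrullDim_eq_height n (Localization.AtPrime n), ← hs] at h2
    have h3 : (n.height : WithBot ℕ∞) ≤ (d : ℕ∞) := WithBot.coe_le_coe.2 hd
    rw [← h2] at h3
    exact_mod_cast h3
  have hnum : ∀ y ∈ s, ∃ x ∈ n, ∃ a : Localization.AtPrime n,
      IsUnit a ∧ algebraMap R _ x = y * a := fun y hy => by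
    obtain ⟨⟨x, t⟩, he⟩ := IsLocalization.surj n.primeCompl y
    refine ⟨x, (IsLocalization.AtPrime.to_map_mem_maximal_iff (Localization.AtPrime n) n x).1 ?_, _,
      IsLocalization.map_units _ t, he.symm⟩
    rw [← he]
    exact Ideal.mul_mem_right _ _ (hspan ▸ Submodule.subset_span hy)
  choose x hx a ha hxa using hnum
  let T : Finset R := s.attach.image fun y => x y.1 y.2
  refine ⟨T, (Finset.card_image_le).trans (by simpa using hcard), fun t ht => ?_, fun f hf => ?_⟩
  · obtain ⟨y, -, rfl⟩ := Finset.mem_image.1 ht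
    exact hx y.1 y.2
  have hmem : algebraMap R (Localization.AtPrime n) f ∈ (Ideal.span (T : Set R)).map (algebraMap R _) := by
    have h0 := (IsLocalization.AtPrime.to_map_mem_maximal_iff (Localization.AtPrime n) n f).2 hf
    rw [← hspan] at h0
    refine Submodule.span_le.2 (fun y hy => ?_) h0
    obtain ⟨w, hw⟩ := (ha y hy).exists_left_inv
    have : y = w * algebraMap R _ (x y hy) := by rw [hxa, ← mul_assoc, mul_comm w y, mul_assoc, hw, mul_one]
    rw [SetLike.mem_coe, this]
    exact Ideal.mul_mem_left _ _ (Ideal.mem_map_of_mem _ (Ideal.subset_span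
      (Finset.mem_image.2 ⟨⟨y, hy⟩, Finset.mem_attach _ _, rfl⟩)))
  rw [IsLocalization.algebraMap_mem_map_algebraMap_iff n.primeCompl] at hmem
  obtain ⟨t, ht, htf⟩ := hmem
  obtain ⟨c, i, hi, hci⟩ := Ideal.IsMaximal.exists_inv ‹_› ht
  have hsplit : f = c * (t * f) + i * f := by
    rw [← mul_assoc, ← add_mul, hci, one_mul]
  rw [hsplit]
  refine add_mem (Submodule.mem_sup_left (Ideal.mul_mem_left _ _ htf)) (Submodule.mem_sup_right ?_)
  rw [pow_two]
  exact Ideal.mul_mem_mul hi hf

theorem constantCoeff_surjective : Function.Surjective fun f : B => constantCoeff (f : S) :=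
  fun c => ⟨algebraMap k B c, by simp [algebraMap_invariants]⟩

instance : (irr k A ι).IsMaximal :=
  RingHom.ker_isMaximal_of_surjective ((constantCoeff (R := k) (σ := ι)).comp (algebraMap B S))
    constantCoeff_surjective

/-- The irrelevant ideal is, modulo its square, spanned by `card ι` elements. -/
theorem exists_span_irr [Module.Finite k A] (hG : HopfRep.IsLinearlyReductive k A) [Module.Flat B S] :
    ∃ T : Finset B, T.card ≤ Nat.card ι ∧ (∀ t ∈ T, t ∈ irr k A ι) ∧
      irr k A ι ≤ Ideal.span (T : Set B) ⊔ irr k A ι ^ 2 := by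
  haveI := isRegularLocalRing_irr (k := k) (A := A) (ι := ι) hG
  exact exists_span_of_regular (irr k A ι) (Nat.card ι) (WithBot.coe_le_coe.1 (by
    exact_mod_cast (Ideal.height_le_ringKrullDim_of_ne_top (Ideal.IsPrime.ne_top inferInstance)).trans
      (ringKrullDim_invariants (k := k) (A := A) (ι := ι)).le))

/-- Homogeneous invariants of positive degree spanning the irrelevant ideal modulo its square. -/
theorem exists_homogeneous_span_irr [Module.Finite k A] (hlin : GLin.IsLinear k A ι)
    (hG : HopfRep.IsLinearlyReductive k A) [Module.Flat B S] :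
    ∃ T : Finset S, T.card ≤ Nat.card ι ∧ (∀ t ∈ T, t ∈ B ∧ ∃ d, 0 < d ∧ t.IsHomogeneous d) ∧
      ∀ f : B, f ∈ irr k A ι → ∃ z ∈ irr k A ι ^ 2, (f : S) - z ∈ Submodule.span k (T : Set S) := by
  classical
  obtain ⟨T₀, hT₀, hT₀n, hle⟩ := exists_span_irr (k := k) (A := A) (ι := ι) hG
  set n := irr k A ι
  let N : Submodule k B := (n ^ 2).restrictScalars k
  let V : Submodule k (B ⧸ N) := (n.restrictScalars k).map N.mkQ
  let H : Set B := {b | ∃ d, 0 < d ∧ (b : S).IsHomogeneous d}
  have hHn : ∀ b ∈ H, b ∈ n := fun b hb => by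
    obtain ⟨d, hd, hb⟩ := hb
    refine mem_irr.2 ?_
    have h := homogeneousComponent_of_mem (m := 0) hb
    rw [if_neg (by omega), comp_zero_eq_C, C_eq_zero] at h
    exact h
  have hspanH : ∀ f ∈ n, f ∈ Submodule.span k H := by
    intro f hf
    suffices h : (f : S) ∈ (Submodule.span k H).map (GLin.invariants k A S).val.toLinearMap by
      obtain ⟨g, hg, hgf⟩ := h
      exact (Subtype.ext hgf : g = f) ▸ hg
    rw [Submodule.map_span, ← sum_homogeneousComponent (f : S)]
    refine sum_mem fun e _ => ?_
    rcases Nat.eq_zero_or_pos e with rfl | he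
    · rw [comp_zero_eq_C, mem_irr.1 hf, map_zero]
      exact zero_mem _
    · exact Submodule.subset_span ⟨⟨_, comp_mem_invariants hlin f.2 e⟩, ⟨e, he, isHomogeneous_comp _ _⟩, rfl⟩
  have hV : V ≤ Submodule.span k ((T₀.image N.mkQ : Finset (B ⧸ N)) : Set (B ⧸ N)) := by
    rintro _ ⟨f, hf, rfl⟩
    obtain ⟨g, hg, z, hz, rfl⟩ := Submodule.mem_sup.1 (hle hf)
    rw [map_add, show N.mkQ z = 0 from (Submodule.Quotient.mk_eq_zero N).2 hz, add_zero]
    clear hf
    induction hg using Submodule.span_induction with
    | mem t ht => exact Submodule.subset_span (Finset.mem_coe.2 (Finset.mem_image.2 ⟨t, ht, rfl⟩))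
    | zero => simp
    | add a b _ _ ha hb => rw [map_add]; exact add_mem ha hb
    | smul r t ht ih =>
      have htn : t ∈ n := Ideal.span_le.2 hT₀n ht
      have h : r * t - constantCoeff (r : S) • t ∈ N := by
        show _ ∈ n ^ 2
        rw [Algebra.smul_def, ← sub_mul, pow_two]
        exact Ideal.mul_mem_mul (mem_irr.2 (by simp [algebraMap_invariants])) htn
      rw [smul_eq_mul, show N.mkQ (r * t) = constantCoeff (r : S) • N.mkQ t from
        ((Submodule.Quotient.eq N).2 h).trans (Submodule.Quotient.mk_smul N _ t)]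
      exact Submodule.smul_mem _ _ ih
  haveI : Module.Finite k V := Submodule.finiteDimensional_of_le hV
  have hdimV : Module.finrank k V ≤ Nat.card ι :=
    ((Submodule.finrank_mono hV).trans (finrank_span_finset_le_card _)).trans
      (Finset.card_image_le.trans hT₀)
  obtain ⟨b, hbH, hbspan, hbli⟩ := exists_linearIndependent k (N.mkQ '' H)
  have hbV : b ⊆ (V : Set (B ⧸ N)) := fun v hv => by
    obtain ⟨f, hf, rfl⟩ := hbH hv
    exact ⟨f, hHn f hf, rfl⟩
  let v : b → V := fun x => ⟨x.1, hbV x.2⟩
  have hvli : LinearIndependent k v := LinearIndependent.of_comp V.subtype hbli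
  haveI : Finite b := hvli.finite
  haveI : Fintype b := Fintype.ofFinite b
  have hbc : Fintype.card b ≤ Nat.card ι := hvli.fintype_card_le_finrank.trans hdimV
  choose g hg hgv using fun x : b => hbH x.2
  let T : Finset S := Finset.univ.image fun x : b => (g x : S)
  refine ⟨T, Finset.card_image_le.trans hbc, fun t ht => ?_, fun f hf => ?_⟩
  · obtain ⟨x, -, rfl⟩ := Finset.mem_image.1 ht
    exact ⟨(g x).2, hg x⟩
  · have hfb : N.mkQ f ∈ (Submodule.span k (Set.range g)).map N.mkQ := by
      rw [Submodule.map_span, ← Set.range_comp, show N.mkQ ∘ g = Subtype.val from funext hgv, Subtype.range_coe,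
        hbspan, ← Submodule.map_span]
      exact Submodule.mem_map_of_mem (hspanH f hf)
    obtain ⟨g', hg', hg''⟩ := hfb
    refine ⟨f - g', (Submodule.Quotient.eq N).1 hg''.symm, ?_⟩
    rw [AddSubgroupClass.coe_sub, sub_sub_cancel]
    have := Submodule.mem_map_of_mem (f := (GLin.invariants k A S).val.toLinearMap) hg'
    rw [Submodule.map_span, ← Set.range_comp] at this
    rw [show (T : Set S) = Set.range fun x : b => (g x : S) by simp [T]]
    exact this

theorem adjoin_eq_of_span_irr (hlin : GLin.IsLinear k A ι) {T : Finset S}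
    (hT : ∀ t ∈ T, t ∈ B ∧ ∃ d, 0 < d ∧ t.IsHomogeneous d)
    (hspan : ∀ f : B, f ∈ irr k A ι → ∃ z ∈ irr k A ι ^ 2, (f : S) - z ∈ Submodule.span k (T : Set S)) :
    B = Algebra.adjoin k (T : Set S) := by
  classical
  refine le_antisymm (fun f hf => ?_) (Algebra.adjoin_le fun t ht => (hT t ht).1)
  suffices h : ∀ d : ℕ, ∀ g : S, g ∈ B → g.IsHomogeneous d → g ∈ Algebra.adjoin k (T : Set S) by
    rw [← sum_homogeneousComponent f]
    exact sum_mem fun e _ => h e _ (comp_mem_invariants hlin hf e) (isHomogeneous_comp _ _)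
  intro d
  induction d using Nat.strong_induction_on with
  | _ d ih =>
    intro g hg hgd
    rcases Nat.eq_zero_or_pos d with rfl | hd
    · have h : g = C (constantCoeff g) := by
        rw [← comp_zero_eq_C, homogeneousComponent_of_mem hgd, if_pos rfl]
      rw [h]
      exact Subalgebra.algebraMap_mem _ _
    obtain ⟨z, hz, hgz⟩ := hspan ⟨g, hg⟩ (mem_irr.2 (by
      have h := homogeneousComponent_of_mem (m := 0) hgd
      rw [if_neg (by omega), comp_zero_eq_C, C_eq_zero] at h
      exact h))
    have h1 : ∀ w ∈ Submodule.span k (T : Set S), homogeneousComponent d w ∈ Algebra.adjoin k (T : Set S) := by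
      intro w hw
      induction hw using Submodule.span_induction with
      | mem t ht =>
        obtain ⟨-, e, -, hte⟩ := hT t ht
        rw [homogeneousComponent_of_mem hte]
        split_ifs
        · exact Algebra.subset_adjoin ht
        · exact zero_mem _
      | zero => simp
      | add a b _ _ ha hb => rw [map_add]; exact add_mem ha hb
      | smul c a _ ha => rw [map_smul]; exact Subalgebra.smul_mem _ ha _
    have h2 : homogeneousComponent d (z : S) ∈ Algebra.adjoin k (T : Set S) := by
      rw [pow_two] at hz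
      clear hgz
      induction hz using Submodule.mul_induction_on' with
      | mem_mul_mem a ha b hb =>
        rw [MulMemClass.coe_mul, ← sum_homogeneousComponent (a : S), Finset.sum_mul, map_sum]
        refine sum_mem fun e _ => ?_
        rw [comp_mul_of_homogeneous (isHomogeneous_comp e _)]
        split_ifs with hed
        · rcases Nat.eq_zero_or_pos e with rfl | he
          · rw [comp_zero_eq_C, mem_irr.1 ha, map_zero, zero_mul]
            exact zero_mem _
          rcases eq_or_lt_of_le hed with rfl | hlt
          · rw [Nat.sub_self, comp_zero_eq_C, mem_irr.1 hb, map_zero, mul_zero]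
            exact zero_mem _
          exact mul_mem (ih e hlt _ (comp_mem_invariants hlin a.2 e) (isHomogeneous_comp _ _))
            (ih (d - e) (by omega) _ (comp_mem_invariants hlin b.2 _) (isHomogeneous_comp _ _))
        · exact zero_mem _
      | add a _ b _ ha hb => rw [AddMemClass.coe_add, map_add]; exact add_mem ha hb
    have := add_mem (h1 _ hgz) h2
    rwa [← map_add, sub_add_cancel, homogeneousComponent_of_mem hgd, if_pos rfl] at this

/-- **Chevalley–Shephard–Todd**: homogeneous generators of the ring of invariants, algebraically independent. -/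
theorem exists_generators [Module.Finite k A] (hlin : GLin.IsLinear k A ι)
    (hG : HopfRep.IsLinearlyReductive k A)
    (hsub : ∀ (I : Ideal A) [I.IsHopfIdeal k], HopfRep.IsLinearlyReductive k (A ⧸ I))
    (hgen : GLin.IsGenByPseudoRefl k A ι) :
    ∃ b : Fin (Nat.card ι) → S, (∀ i, b i ∈ B ∧ ∃ d, 0 < d ∧ (b i).IsHomogeneous d) ∧
      B = (aeval b).range ∧ Function.Injective (aeval b : MvPolynomial (Fin (Nat.card ι)) k →ₐ[k] S) := by
  classical
  haveI := flat_invariants hlin hG hsub hgen
  obtain ⟨T, hTc, hT, hspan⟩ := exists_homogeneous_span_irr (k := k) (A := A) (ι := ι) hlin hG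
  have hB := adjoin_eq_of_span_irr hlin hT hspan
  let e : T ≃ Fin T.card := T.equivFin
  let c : Fin T.card → S := fun i => (e.symm i : S)
  have hrange : B = (aeval c).range := by
    rw [hB, ← Algebra.adjoin_range_eq_range_aeval]
    congr 1
    exact ((e.symm.surjective.range_comp (Subtype.val : T → S)).trans Subtype.range_coe).symm
  let φ : MvPolynomial (Fin T.card) k →ₐ[k] B := (aeval c).codRestrict B fun p => (SetLike.ext_iff.1 hrange _).2 ⟨p, rfl⟩
  have hsurj : Function.Surjective φ := fun f => by
    obtain ⟨p, hp⟩ := (SetLike.ext_iff.1 hrange (f : S)).1 f.2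
    exact ⟨p, Subtype.ext hp⟩
  have hdim : ringKrullDim (MvPolynomial (Fin T.card) k) = T.card := by
    rw [MvPolynomial.ringKrullDim_of_isNoetherianRing, ringKrullDim_eq_zero_of_field, zero_add, Nat.card_fin]
  have hinj : Function.Injective φ := by
    rw [injective_iff_map_eq_zero]
    intro r hr
    by_contra hne
    have hq := ringKrullDim_quotient_succ_le_of_nonZeroDivisor (mem_nonZeroDivisors_of_ne_zero hne)
    have hle := ringKrullDim_le_of_surjective (Ideal.Quotient.lift (Ideal.span {r}) φ.toRingHom fun a ha => by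
      obtain ⟨b, rfl⟩ := Ideal.mem_span_singleton'.1 ha
      simp [hr]) (Ideal.Quotient.lift_surjective_of_surjective _ _ hsurj)
    have h := le_trans (add_le_add_left hle 1) hq
    rw [ringKrullDim_invariants, hdim] at h
    have h' : Nat.card ι + 1 ≤ T.card := by exact_mod_cast h
    omega
  have hcard : T.card = Nat.card ι := by
    have h := ringKrullDim_eq_of_ringEquiv (RingEquiv.ofBijective φ.toRingHom ⟨hinj, hsurj⟩)
    rw [ringKrullDim_invariants, hdim] at h
    exact_mod_cast h
  have hinj' : Function.Injective (aeval c : MvPolynomial (Fin T.card) k →ₐ[k] S) :=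
    fun p q h => hinj (Subtype.ext h)
  have hc : ∀ i, c i ∈ B ∧ ∃ d, 0 < d ∧ (c i).IsHomogeneous d := fun i => hT _ (e.symm i).2
  have key : ∀ m, m = Nat.card ι → ∀ c : Fin m → S, (∀ i, c i ∈ B ∧ ∃ d, 0 < d ∧ (c i).IsHomogeneous d) →
      B = (aeval c).range → Function.Injective (aeval c : MvPolynomial (Fin m) k →ₐ[k] S) →
      ∃ b : Fin (Nat.card ι) → S, (∀ i, b i ∈ B ∧ ∃ d, 0 < d ∧ (b i).IsHomogeneous d) ∧
        B = (aeval b).range ∧ Function.Injective (aeval b : MvPolynomial (Fin (Nat.card ι)) k →ₐ[k] S) := by
    rintro m rfl c h1 h2 h3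
    exact ⟨c, h1, h2, h3⟩
  exact key _ hcard c hc hrange hinj'

end Groth.L08.CST
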