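import Groth.Agent.L08.CST.Main
import Groth.Agent.L08.GITSep
import Groth.Agent.L12.CotTSmooth
import Groth.Prelude.Def_ComodTens
import Mathlib.RingTheory.Nakayama
import Mathlib.RingTheory.Smooth.Locus

/-!
# Chevalley–Shephard–Todd at a fixed rational point of a smooth affine scheme
-/

set_option autoImplicit false
set_option linter.unusedSectionVars false

universe u

open TensorProduct MvPolynomial

noncomputable section

namespace Groth.L08.CST

open Groth.L08

variable {k : Type u} [Field k] {A : Type u} [CommRing A] [HopfAlgebra k A]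
  {R : Type u} [CommRing R] [Algebra k R] [HopfRep.Comod k A R] [GLin.IsCoactAlg k A R]

theorem ker_orbitHom_of_fixed {x : R →ₐ[k] k} (hx : GLin.IsFixedPt k A x) :
    RingHom.ker (GLin.orbitHom k A x) = RingHom.ker x := by
  haveI : Nontrivial A := (Bialgebra.counitAlgHom k A).toRingHom.domain_nontrivial
  ext r
  rw [RingHom.mem_ker, RingHom.mem_ker, hx]
  exact map_eq_zero_iff _ (algebraMap k A).injective

theorem isSubcomod_ker_fixed {x : R →ₐ[k] k} (hx : GLin.IsFixedPt k A x) :
    HopfRep.IsSubcomod (k := k) (A := A) ((RingHom.ker x).restrictScalars k) :=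
  ker_orbitHom_of_fixed hx ▸ GITSep.isSubcomod_ker_orbitHom x

theorem isMaximal_ker (x : R →ₐ[k] k) : (RingHom.ker x).IsMaximal :=
  RingHom.ker_isMaximal_of_surjective _ fun c => ⟨algebraMap k R c, x.commutes c⟩

/-- A fixed rational point is the only prime over its image in the quotient. -/
theorem eq_ker_of_comap_eq [Module.Finite k A] {x : R →ₐ[k] k} (hx : GLin.IsFixedPt k A x) (q : Ideal R) [q.IsPrime]
    (h : q.comap (algebraMap (GLin.invariants k A R) R) =
      (RingHom.ker x).comap (algebraMap (GLin.invariants k A R) R)) : q = RingHom.ker x := by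
  haveI := isMaximal_ker x
  obtain ⟨Q, hQ, hl, hr⟩ := FinScheme.exists_conj (k := k) (H := A) (RingHom.ker x) q h.symm
  refine ((isMaximal_ker x).eq_of_le ‹q.IsPrime›.ne_top fun r hr' => ?_).symm
  rw [← hr, Ideal.mem_comap]
  obtain ⟨y, hy⟩ := isSubcomod_ker_fixed hx r hr'
  show HopfRep.Comod.coact (k := k) (A := A) r ∈ Q
  rw [← hy]
  clear hy
  induction y with
  | zero => simp
  | add a b ha hb => rw [map_add]; exact add_mem ha hb
  | tmul a b =>
    have ha : (a : R) ⊗ₜ[k] (1 : A) ∈ Q := (SetLike.ext_iff.1 hl (a : R)).2 a.2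
    have h := Q.mul_mem_right ((1 : R) ⊗ₜ[k] b) ha
    rw [Algebra.TensorProduct.tmul_mul_tmul, mul_one, one_mul] at h
    exact h

theorem height_ker_le [Module.Finite k A] (x : R →ₐ[k] k)
    [((RingHom.ker x).comap (algebraMap (GLin.invariants k A R) R)).IsPrime] :
    (RingHom.ker x).height ≤ ((RingHom.ker x).comap (algebraMap (GLin.invariants k A R) R)).height := by
  haveI := FinScheme.isIntegral k A R
  haveI := isMaximal_ker x
  rw [PrimeSpectrum.height_eq_orderHeight ⟨RingHom.ker x, inferInstance⟩,
    PrimeSpectrum.height_eq_orderHeight ⟨(RingHom.ker x).comap _, inferInstance⟩]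
  exact Order.height_le_height_apply_of_strictMono (PrimeSpectrum.comap (algebraMap (GLin.invariants k A R) R))
    (fun I J h => Ideal.IsIntegral.comap_lt_comap (I := I.asIdeal) (J := J.asIdeal) h) ⟨RingHom.ker x, inferInstance⟩

/-- The cotangent space of a smooth algebra at a rational point has dimension at most the local dimension. -/
theorem finrank_cotSpace_le [Algebra.FiniteType k R] [Algebra.Smooth k R] (x : R →ₐ[k] k) :
    Module.Finite k (GLin.cotSpace k R x) ∧
      (Module.finrank k (GLin.cotSpace k R x) : ℕ∞) ≤ (RingHom.ker x).height := by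
  classical
  haveI := isMaximal_ker x
  haveI : IsNoetherianRing R := Algebra.FiniteType.isNoetherianRing k R
  haveI : Algebra.IsSmoothAt k (RingHom.ker x) := by
    have h : (⟨RingHom.ker x, inferInstance⟩ : PrimeSpectrum R) ∈ Algebra.smoothLocus k R := by
      rw [Algebra.smoothLocus_eq_univ]; trivial
    exact h
  haveI := Groth.L12.CotTLib.regular_of_isSmoothAt (k := k) (RingHom.ker x)
  obtain ⟨d, hd⟩ : ∃ d : ℕ, (RingHom.ker x).height = d :=
    ⟨_, (ENat.coe_toNat (Ideal.height_ne_top (Ideal.IsPrime.ne_top inferInstance))).symm⟩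
  obtain ⟨T, hT, hTm, hle⟩ := exists_span_of_regular (RingHom.ker x) d hd.le
  let q := (Ideal.Quotient.mkₐ k (RingHom.ker x ^ 2)).toLinearMap
  have hV : GLin.cotSpace k R x ≤
      Submodule.span k ((T.image q : Finset _) : Set (R ⧸ RingHom.ker x ^ 2)) := by
    rintro _ ⟨f, hf, rfl⟩
    obtain ⟨g, hg, z, hz, rfl⟩ := Submodule.mem_sup.1 (hle hf)
    rw [map_add, show q z = 0 from Ideal.Quotient.eq_zero_iff_mem.2 hz, add_zero]
    clear hf
    induction hg using Submodule.span_induction with
    | mem t ht => exact Submodule.subset_span (Finset.mem_coe.2 (Finset.mem_image.2 ⟨t, ht, rfl⟩))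
    | zero => simp
    | add a b _ _ ha hb => rw [map_add]; exact add_mem ha hb
    | smul r t ht ih =>
      have htn : t ∈ RingHom.ker x := Ideal.span_le.2 hTm ht
      have h : q (r * t) = x r • q t := by
        rw [← map_smul]
        refine (Ideal.Quotient.eq (I := RingHom.ker x ^ 2)).2 ?_
        rw [Algebra.smul_def, ← sub_mul, pow_two]
        exact Ideal.mul_mem_mul (by simp [RingHom.mem_ker]) htn
      rw [smul_eq_mul, h]
      exact Submodule.smul_mem _ _ ih
  refine ⟨Submodule.finiteDimensional_of_le hV, hd ▸ ?_⟩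
  exact_mod_cast ((Submodule.finrank_mono hV).trans (finrank_span_finset_le_card _)).trans
    (Finset.card_image_le.trans hT)

/-- A stable complement of the square of the maximal ideal of a fixed point inside that ideal. -/
theorem exists_complement (hG : HopfRep.IsLinearlyReductive k A) {x : R →ₐ[k] k} (hx : GLin.IsFixedPt k A x) :
    ∃ L : Submodule k R, HopfRep.IsSubcomod (k := k) (A := A) L ∧ L ≤ (RingHom.ker x).restrictScalars k ∧
      Function.Injective ((Ideal.Quotient.mkₐ k (RingHom.ker x ^ 2)).toLinearMap ∘ₗ L.subtype) ∧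
      L.map (Ideal.Quotient.mkₐ k (RingHom.ker x ^ 2)).toLinearMap = GLin.cotSpace k R x := by
  let mm := (RingHom.ker x).restrictScalars k
  let m2 := (RingHom.ker x ^ 2).restrictScalars k
  have hm := isSubcomod_ker_fixed hx
  have hm2 : HopfRep.IsSubcomod (k := k) (A := A) m2 := by
    have := FreeOrbitPt.isSubcomod_mul hm hm
    simpa only [m2, pow_two] using this
  obtain ⟨C, hC, hc⟩ := isSemisimpleComod_of_isLinearlyReductive hG R m2 hm2
  have hle : m2 ≤ mm := fun z hz => Ideal.pow_le_self two_ne_zero hz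
  refine ⟨C ⊓ mm, isSubcomod_inf hC hm, inf_le_right, ?_, ?_⟩
  · rw [injective_iff_map_eq_zero]
    intro z hz
    have h2 : (z : R) ∈ m2 := Ideal.Quotient.eq_zero_iff_mem.1 hz
    exact Subtype.ext ((Submodule.disjoint_def.1 hc.disjoint) _ h2 z.2.1)
  · have hsup : m2 ⊔ (C ⊓ mm) = mm := by
      rw [← sup_inf_assoc_of_le C hle, hc.sup_eq_top, top_inf_eq]
    refine le_antisymm (Submodule.map_mono inf_le_right) ?_
    rintro _ ⟨v, hv, rfl⟩
    have hv : v ∈ m2 ⊔ (C ⊓ mm) := hsup.symm ▸ hv
    obtain ⟨a, ha, b, hb, rfl⟩ := Submodule.mem_sup.1 hv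
    exact ⟨b, hb, by
      rw [map_add, show (Ideal.Quotient.mkₐ k (RingHom.ker x ^ 2)).toLinearMap a = 0 from
        Ideal.Quotient.eq_zero_iff_mem.2 ha, zero_add]⟩

/-- A linear coaction on a polynomial ring in finitely many variables, with an equivariant map onto the
functions to first order at the fixed point. -/
structure Lin (x : R →ₐ[k] k) where
  ι : Type u
  fin : Fintype ι
  comod : HopfRep.Comod k A (MvPolynomial ι k)
  coactAlg : letI := comod; GLin.IsCoactAlg k A (MvPolynomial ι k)
  isLinear : letI := fin; letI := comod; GLin.IsLinear k A ι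
  toHom : MvPolynomial ι k →ₐ[k] R
  isComodHom : letI := comod; Hoch.IsComodHom A toHom.toLinearMap
  mem : ∀ i, toHom (MvPolynomial.X i) ∈ RingHom.ker x
  inj : Function.Injective ((Ideal.Quotient.mkₐ k (RingHom.ker x ^ 2)).toLinearMap ∘ₗ toHom.toLinearMap ∘ₗ
    (MvPolynomial.homogeneousSubmodule ι k 1).subtype)
  surj : (MvPolynomial.homogeneousSubmodule ι k 1).map
    ((Ideal.Quotient.mkₐ k (RingHom.ker x ^ 2)).toLinearMap ∘ₗ toHom.toLinearMap) = GLin.cotSpace k R x
  card_eq : Nat.card ι = Module.finrank k (GLin.cotSpace k R x)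

theorem nonempty_lin [Algebra.FiniteType k R] [Algebra.Smooth k R] (hG : HopfRep.IsLinearlyReductive k A)
    {x : R →ₐ[k] k} (hx : GLin.IsFixedPt k A x) : Nonempty (Lin (A := A) x) := by
  classical
  obtain ⟨L, hLsub, hLm, hinj, hsurj⟩ := exists_complement hG hx
  haveI := (finrank_cotSpace_le x).1
  let q := (Ideal.Quotient.mkₐ k (RingHom.ker x ^ 2)).toLinearMap
  let eL : L ≃ₗ[k] GLin.cotSpace k R x := (LinearEquiv.ofInjective _ hinj).trans
    (LinearEquiv.ofEq _ _ (by rw [LinearMap.range_comp, Submodule.range_subtype, hsurj]))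
  haveI : Module.Finite k L := Module.Finite.equiv eL.symm
  letI cW := ComodSub.Comod.restr ‹HopfRep.Comod k A R› L hLsub
  let ι₀ := Fin (Module.finrank k L)
  let b' : Module.Basis ι₀ k L := Module.finBasis k L
  let τ := ULift.{u} ι₀
  let lin : L →ₗ[k] MvPolynomial τ k := b'.constr k fun i => MvPolynomial.X ⟨i⟩
  have hlinb : ∀ i, lin (b' i) = MvPolynomial.X ⟨i⟩ := fun i => b'.constr_basis k _ i
  let ρ₀ : MvPolynomial τ k →ₐ[k] MvPolynomial τ k ⊗[k] A :=
    MvPolynomial.aeval fun i => lin.rTensor A (cW.coact (b' i.down))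
  have hρlin : ρ₀.toLinearMap ∘ₗ lin = lin.rTensor A ∘ₗ cW.coact := by
    refine b'.ext fun i => ?_
    simp only [LinearMap.comp_apply, hlinb, AlgHom.toLinearMap_apply, ρ₀, MvPolynomial.aeval_X]
  letI cP : HopfRep.Comod k A (MvPolynomial τ k) :=
    { coact := ρ₀.toLinearMap
      coassoc := by
        have key : (Algebra.TensorProduct.assoc k k k (MvPolynomial τ k) A A).toAlgHom.comp
            ((Algebra.TensorProduct.map ρ₀ (AlgHom.id k A)).comp ρ₀) =
            (Algebra.TensorProduct.map (AlgHom.id k (MvPolynomial τ k))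
              (Bialgebra.comulAlgHom k A)).comp ρ₀ := by
          refine MvPolynomial.algHom_ext fun i => ?_
          have hX : MvPolynomial.X i = lin (b' i.down) := (hlinb i.down).symm
          rw [hX]
          exact ComodTens.coassoc_apply_of_hom cW ρ₀.toLinearMap lin hρlin (b' i.down)
        exact LinearMap.ext fun x => AlgHom.congr_fun key x
      counit_comp := by
        have key : (Algebra.TensorProduct.map (AlgHom.id k (MvPolynomial τ k))
              (Bialgebra.counitAlgHom k A)).comp ρ₀ =
            (Algebra.TensorProduct.includeLeft : MvPolynomial τ k →ₐ[k] MvPolynomial τ k ⊗[k] k) := by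
          refine MvPolynomial.algHom_ext fun i => ?_
          have hX : MvPolynomial.X i = lin (b' i.down) := (hlinb i.down).symm
          rw [hX]
          exact ComodTens.counit_apply_of_hom cW ρ₀.toLinearMap lin hρlin (b' i.down)
        exact LinearMap.ext fun x => AlgHom.congr_fun key x }
  haveI hca : GLin.IsCoactAlg k A (MvPolynomial τ k) := ⟨map_one ρ₀, map_mul ρ₀⟩
  let π : MvPolynomial τ k →ₐ[k] R := MvPolynomial.aeval fun i => ((b' i.down : L) : R)
  have hπlin : π.toLinearMap ∘ₗ lin = L.subtype := b'.ext fun i => by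
    simp only [LinearMap.comp_apply, hlinb, AlgHom.toLinearMap_apply, π, MvPolynomial.aeval_X, Submodule.subtype_apply]
  have hπ : Hoch.IsComodHom A π.toLinearMap := by
    have key : (GLin.coactAlgHom k A R).comp π =
        (Algebra.TensorProduct.map π (AlgHom.id k A)).comp ρ₀ := by
      refine MvPolynomial.algHom_ext fun i => ?_
      have h1 : π (MvPolynomial.X i) = ((b' i.down : L) : R) := by simp [π]
      have h2 : ρ₀ (MvPolynomial.X i) = lin.rTensor A (cW.coact (b' i.down)) := by simp [ρ₀]
      simp only [AlgHom.comp_apply, h1, h2]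
      change _ = π.toLinearMap.rTensor A (lin.rTensor A (cW.coact (b' i.down)))
      rw [← LinearMap.rTensor_comp_apply, hπlin]
      exact LinearMap.congr_fun (ComodSub.isComodHom_subtype _ L hLsub) (b' i.down)
    exact LinearMap.ext fun x => AlgHom.congr_fun key x
  have hrange : MvPolynomial.homogeneousSubmodule τ k 1 = LinearMap.range lin := by
    rw [MvPolynomial.homogeneousSubmodule_one_eq_span_X, show LinearMap.range lin = Submodule.span k (Set.range fun i => (MvPolynomial.X ⟨i⟩ : MvPolynomial τ k))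
      from b'.constr_range k]
    congr 1
    exact (Equiv.ulift.symm.surjective.range_comp (MvPolynomial.X : τ → MvPolynomial τ k)).symm
  refine ⟨⟨τ, inferInstance, cP, hca, fun i => ?_, π, hπ, fun i => ?_, ?_, ?_, ?_⟩⟩
  · obtain ⟨c, hc⟩ : ∃ c : τ → A, lin.rTensor A (cW.coact (b' i.down)) =
        ∑ j, (MvPolynomial.X j : MvPolynomial τ k) ⊗ₜ[k] c j := by
      induction cW.coact (b' i.down) using TensorProduct.induction_on with
      | zero => exact ⟨0, by simp⟩
      | add a b ha hb =>
        obtain ⟨ca, hca⟩ := ha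
        obtain ⟨cb, hcb⟩ := hb
        exact ⟨ca + cb, by simp [map_add, hca, hcb, TensorProduct.tmul_add, Finset.sum_add_distrib]⟩
      | tmul v a =>
        refine ⟨fun j => b'.repr v j.down • a, ?_⟩
        rw [LinearMap.rTensor_tmul, show lin v = ∑ j, b'.repr v j • MvPolynomial.X (⟨j⟩ : τ) from
          b'.constr_apply_fintype k _ v, TensorProduct.sum_tmul]
        refine (Fintype.sum_equiv Equiv.ulift _ _ fun j => ?_).symm
        rw [TensorProduct.tmul_smul, TensorProduct.smul_tmul']
        rfl
    refine ⟨c, ?_⟩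
    show ρ₀ (MvPolynomial.X i) = _
    rw [MvPolynomial.aeval_X, hc]
  · show π (MvPolynomial.X i) ∈ _
    simp only [π, MvPolynomial.aeval_X]
    exact hLm (b' i.down).2
  · rw [injective_iff_map_eq_zero]
    rintro ⟨l, hl⟩ h0
    obtain ⟨v, rfl⟩ := (hrange ▸ hl : l ∈ LinearMap.range lin)
    have hv : v = 0 := (injective_iff_map_eq_zero _).1 hinj v (by
      show q ((L.subtype) v) = 0
      rw [← hπlin]
      exact h0)
    exact Subtype.ext (by simp [hv])
  · rw [hrange, ← LinearMap.range_comp, LinearMap.comp_assoc, hπlin, LinearMap.range_comp, Submodule.range_subtype, hsurj]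
  · rw [Nat.card_congr Equiv.ulift, Nat.card_fin, eL.finrank_eq]

variable {x : R →ₐ[k] k}

/-- equivariant polynomial approximation of functions vanishing to order `j` -/
theorem exists_approx (D : Lin (A := A) x) (j : ℕ) : ∀ f ∈ RingHom.ker x ^ j,
    ∃ p : MvPolynomial D.ι k, p.IsHomogeneous j ∧ f - D.toHom p ∈ RingHom.ker x ^ (j + 1) := by
  have hlin : ∀ a ∈ RingHom.ker x, ∃ p : MvPolynomial D.ι k, p.IsHomogeneous 1 ∧ a - D.toHom p ∈ RingHom.ker x ^ 2 := by
    intro a ha
    have : (Ideal.Quotient.mkₐ k (RingHom.ker x ^ 2)).toLinearMap a ∈ GLin.cotSpace k R x := ⟨a, ha, rfl⟩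
    rw [← D.surj] at this
    obtain ⟨p, hp, hpq⟩ := this
    exact ⟨p, hp, (Ideal.Quotient.eq).1 hpq.symm⟩
  induction j with
  | zero =>
    intro f _
    refine ⟨C (x f), isHomogeneous_C _ _, ?_⟩
    rw [zero_add, pow_one, RingHom.mem_ker, map_sub, ← algebraMap_eq, AlgHom.commutes, AlgHom.commutes,
      Algebra.algebraMap_self, RingHom.id_apply, sub_self]
  | succ j ih =>
    intro f hf
    rw [pow_succ] at hf
    induction hf using Submodule.mul_induction_on' with
    | mem_mul_mem a ha b hb =>
      obtain ⟨p, hp, hpa⟩ := ih a ha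
      obtain ⟨p', hp', hpb⟩ := hlin b hb
      refine ⟨p * p', hp.mul hp', ?_⟩
      have hp0 : D.toHom p ∈ RingHom.ker x ^ j := by
        have := sub_mem ha (Ideal.pow_le_pow_right (Nat.le_succ j) hpa)
        rwa [sub_sub_cancel] at this
      rw [map_mul, show a * b - D.toHom p * D.toHom p' = (a - D.toHom p) * b + D.toHom p * (b - D.toHom p') by ring]
      refine add_mem ?_ ?_
      · rw [show j + 1 + 1 = (j + 1) + 1 from rfl, pow_succ]
        exact Ideal.mul_mem_mul hpa hb
      · rw [show j + 1 + 1 = j + 2 from rfl, pow_add]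
        exact Ideal.mul_mem_mul hp0 hpb
    | add a _ b _ ha hb =>
      obtain ⟨p, hp, hpa⟩ := ha
      obtain ⟨p', hp', hpb⟩ := hb
      refine ⟨p + p', hp.add hp', ?_⟩
      rw [map_add, add_sub_add_comm]
      exact add_mem hpa hpb

/-- Pseudo-reflections at the point are the pseudo-reflections of the linearisation. -/
theorem isPseudoReflAt_iff (hx : GLin.IsFixedPt k A x) (D : Lin (A := A) x) (I : Ideal A) :
    letI := D.fin; letI := D.comod
    (GLin.IsPseudoRefl k A D.ι I ↔ GLin.IsPseudoReflAt k A R x I) := by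
  letI := D.fin; letI := D.comod; haveI := D.coactAlg
  let q := (Ideal.Quotient.mkₐ k (RingHom.ker x ^ 2)).toLinearMap
  let π := (Ideal.Quotient.mkₐ k I).toLinearMap
  let g := q ∘ₗ D.toHom.toLinearMap
  let H := MvPolynomial.homogeneousSubmodule D.ι k 1
  have hm2 : HopfRep.IsSubcomod (k := k) (A := A) ((RingHom.ker x ^ 2).restrictScalars k) := by
    have := FreeOrbitPt.isSubcomod_mul (isSubcomod_ker_fixed hx) (isSubcomod_ker_fixed hx)
    simpa only [pow_two] using this
  have hHm : ∀ l ∈ H, D.toHom l ∈ RingHom.ker x := fun l hl => by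
    refine (Submodule.span_le (p := ((RingHom.ker x).restrictScalars k).comap D.toHom.toLinearMap)).2 ?_
      (show l ∈ Submodule.span k (Set.range MvPolynomial.X) from by
        rw [← MvPolynomial.homogeneousSubmodule_one_eq_span_X]; exact hl)
    rintro _ ⟨i, rfl⟩
    exact D.mem i
  have hnat : ∀ l, TensorProduct.map q π (HopfRep.Comod.coact (k := k) (A := A) (D.toHom l)) =
      g.rTensor (A ⧸ I) (π.lTensor _ (HopfRep.Comod.coact (k := k) (A := A) l)) := fun l => by
    rw [show HopfRep.Comod.coact (k := k) (A := A) (D.toHom l) = D.toHom.toLinearMap.rTensor A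
      (HopfRep.Comod.coact (k := k) (A := A) l) from LinearMap.congr_fun D.isComodHom l]
    induction HopfRep.Comod.coact (k := k) (A := A) l using TensorProduct.induction_on with
    | zero => simp
    | add a b ha hb => simp only [map_add, ha, hb]
    | tmul a b => rfl
  have hzero : ∀ v ∈ RingHom.ker x ^ 2, TensorProduct.map q π (HopfRep.Comod.coact (k := k) (A := A) v) = 0 := by
    intro v hv
    obtain ⟨y, hy⟩ := hm2 v hv
    rw [← hy]
    clear hy
    induction y using TensorProduct.induction_on with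
    | zero => simp
    | add a b ha hb => simp only [map_add, ha, hb, add_zero]
    | tmul a b =>
      rw [LinearMap.rTensor_tmul, TensorProduct.map_tmul, Submodule.subtype_apply, show q a.1 = 0 from Ideal.Quotient.eq_zero_iff_mem.2 a.2]
      exact TensorProduct.zero_tmul _ _
  have hfix : GLin.cotFixed k A R x I = (H ⊓ GLin.quotInvariants k A _ I).map g := by
    refine le_antisymm ?_ ?_
    · rintro _ ⟨v, ⟨hvm, hvI⟩, rfl⟩
      obtain ⟨l, hl, hlv⟩ := (D.surj.ge ⟨v, hvm, rfl⟩ : q v ∈ H.map g)
      refine ⟨l, ⟨hl, ?_⟩, hlv⟩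
      have hd : v - D.toHom l ∈ RingHom.ker x ^ 2 := Ideal.Quotient.eq.1 hlv.symm
      have h1 := hzero _ hd
      rw [map_sub, map_sub, hnat, sub_eq_zero] at h1
      have h2 : TensorProduct.map q π (HopfRep.Comod.coact (k := k) (A := A) v) = g l ⊗ₜ[k] (1 : A ⧸ I) := by
        rw [hlv]; exact hvI
      rw [h1] at h2
      obtain ⟨y, hy⟩ := isSubcomod_homogeneousSubmodule (lin_range D.isLinear) 1 l hl
      have h3 : π.lTensor _ (HopfRep.Comod.coact (k := k) (A := A) l) = H.subtype.rTensor (A ⧸ I) (π.lTensor _ y) := by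
        rw [← hy, ← LinearMap.comp_apply, ← LinearMap.comp_apply, LinearMap.rTensor_comp_lTensor,
          LinearMap.lTensor_comp_rTensor]
      show π.lTensor _ (HopfRep.Comod.coact (k := k) (A := A) l) = l ⊗ₜ[k] (1 : A ⧸ I)
      rw [h3] at h2 ⊢
      rw [← LinearMap.rTensor_comp_apply] at h2
      have h4 : π.lTensor H y = (⟨l, hl⟩ : H) ⊗ₜ[k] (1 : A ⧸ I) :=
        Module.Flat.rTensor_preserves_injective_linearMap (g ∘ₗ H.subtype) D.inj h2
      rw [h4]
      rfl
    · rintro _ ⟨l, ⟨hl, hlI⟩, rfl⟩
      refine ⟨D.toHom l, ⟨hHm l hl, ?_⟩, rfl⟩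
      show TensorProduct.map q π (HopfRep.Comod.coact (k := k) (A := A) (D.toHom l)) = q (D.toHom l) ⊗ₜ[k] (1 : A ⧸ I)
      rw [hnat, show π.lTensor _ (HopfRep.Comod.coact (k := k) (A := A) l) = l ⊗ₜ[k] (1 : A ⧸ I) from hlI]
      rfl
  have hinj : ∀ W ≤ H, Module.finrank k (W.map g) = Module.finrank k W := fun W hW => by
    refine (LinearEquiv.finrank_eq (LinearEquiv.ofBijective (g.submoduleMap W) ⟨?_, g.submoduleMap_surjective W⟩)).symm
    intro a b h
    have := @D.inj ⟨a.1, hW a.2⟩ ⟨b.1, hW b.2⟩ (congrArg Subtype.val h)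
    exact Subtype.ext (congrArg Subtype.val this :)
  unfold GLin.IsPseudoRefl GLin.IsPseudoReflAt
  rw [hfix, hinj _ inf_le_left, ← hinj H le_rfl, show H.map g = GLin.cotSpace k R x from D.surj]

theorem genIdeal_eq (hx : GLin.IsFixedPt k A x) (D : Lin (A := A) x) (hgen : GLin.IsGenByPseudoReflAt k A R x) :
    letI := D.fin; letI := D.comod
    GLin.IsGenByPseudoRefl k A D.ι := by
  letI := D.fin; letI := D.comod
  show GLin.genIdeal k A D.ι = ⊥
  rw [← hgen, GLin.genIdeal, GLin.genIdealAt]
  simp only [isPseudoReflAt_iff hx D]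

/-- **Chevalley–Shephard–Todd at a fixed point**: the local ring of the quotient at the image of the point is regular. -/
theorem isRegularLocalRing_quotient [Module.Finite k A] [Algebra.FiniteType k R] [Algebra.Smooth k R]
    (hG : HopfRep.IsLinearlyReductive k A)
    (hsub : ∀ (I : Ideal A) [I.IsHopfIdeal k], HopfRep.IsLinearlyReductive k (A ⧸ I))
    (x : R →ₐ[k] k) (hx : GLin.IsFixedPt k A x) (hgen : GLin.IsGenByPseudoReflAt k A R x)
    [(RingHom.ker (x.comp (GLin.invariants k A R).val)).IsPrime] :
    IsRegularLocalRing (Localization.AtPrime (RingHom.ker (x.comp (GLin.invariants k A R).val))) := by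
  classical
  obtain ⟨D⟩ := nonempty_lin hG hx
  letI := D.fin; letI := D.comod; haveI := D.coactAlg
  obtain ⟨b, hb, hBS, -⟩ := exists_generators D.isLinear hG hsub (genIdeal_eq hx D hgen)
  set B := GLin.invariants k A R
  set y := RingHom.ker (x.comp B.val)
  have hy : y = (RingHom.ker x).comap (algebraMap B R) := rfl
  haveI := isMaximal_ker x
  haveI : IsNoetherianRing R := Algebra.FiniteType.isNoetherianRing k R
  haveI : IsNoetherianRing B := isNoetherianRing_invariants (R := R) hG
  haveI hyMax : y.IsMaximal := isMaximal_ker (x.comp B.val)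
  obtain ⟨α, hα⟩ := exists_isIntegral hG
  have hPhi : ∀ s : MvPolynomial D.ι k, s ∈ GLin.invariants k A (MvPolynomial D.ι k) → D.toHom s ∈ B := fun s hs => by
    show HopfRep.Comod.coact (k := k) (A := A) (D.toHom s) = D.toHom s ⊗ₜ[k] (1 : A)
    have h := LinearMap.congr_fun D.isComodHom s
    exact h.trans (by
      rw [LinearMap.comp_apply, show HopfRep.Comod.coact (k := k) (A := A) s = s ⊗ₜ[k] (1 : A) from hs]
      rfl)
  let c : Fin (Nat.card D.ι) → B := fun i => ⟨D.toHom (b i), hPhi _ (hb i).1⟩
  let J : Ideal B := Ideal.span (Set.range c)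
  have hgenpos : ∀ d, 0 < d → ∀ p : MvPolynomial D.ι k, p ∈ GLin.invariants k A (MvPolynomial D.ι k) →
      p.IsHomogeneous d → ∃ g ∈ J, (g : R) = D.toHom p := by
    intro d hd p hp hpd
    obtain ⟨P, rfl⟩ := (SetLike.ext_iff.1 hBS p).1 hp
    have hP : ∀ Q : MvPolynomial (Fin (Nat.card D.ι)) k, aeval c Q - algebraMap k B (constantCoeff Q) ∈ J := by
      intro Q
      induction Q using MvPolynomial.induction_on with
      | C a => simp
      | add p q hp hq =>
        rw [map_add, map_add, map_add, add_sub_add_comm]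
        exact add_mem hp hq
      | mul_X p i hp =>
        simp only [map_mul, aeval_X, constantCoeff_X, mul_zero, map_zero, sub_zero]
        exact J.mul_mem_left _ (Ideal.subset_span ⟨i, rfl⟩)
    have hc0 : ∀ Q : MvPolynomial (Fin (Nat.card D.ι)) k,
        constantCoeff (aeval b Q : MvPolynomial D.ι k) = constantCoeff Q := by
      intro Q
      induction Q using MvPolynomial.induction_on with
      | C a => simp
      | add p q hp hq => simp only [map_add, hp, hq]
      | mul_X p i hp =>
        obtain ⟨-, e, he, hbe⟩ := hb i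
        have h0 := homogeneousComponent_of_mem (m := 0) hbe
        rw [if_neg (by omega), comp_zero_eq_C, C_eq_zero] at h0
        simp [map_mul, h0]
    have h0 : constantCoeff P = 0 := by
      have h := homogeneousComponent_of_mem (m := 0) hpd
      rw [if_neg (by omega), comp_zero_eq_C, C_eq_zero] at h
      exact (hc0 P).symm.trans h
    refine ⟨aeval c P, by simpa [h0] using hP P, ?_⟩
    have e : (B.val).comp (aeval c) = D.toHom.comp (aeval b) := MvPolynomial.algHom_ext fun i => by simp [c]
    exact AlgHom.congr_fun e P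
  have happrox : ∀ j, 1 ≤ j → ∀ f : B, f ∈ y → ∃ g ∈ J, ((f - g : B) : R) ∈ RingHom.ker x ^ j := by
    intro j hj
    induction j, hj using Nat.le_induction with
    | base =>
      intro f hf
      refine ⟨0, J.zero_mem, ?_⟩
      rw [sub_zero, pow_one]
      exact hf
    | succ j hj ih =>
      intro f hf
      obtain ⟨g, hg, hfg⟩ := ih f hf
      obtain ⟨p, hp, hr⟩ := exists_approx D j _ hfg
      have hsubj : HopfRep.IsSubcomod (k := k) (A := A) ((RingHom.ker x ^ (j + 1)).restrictScalars k) := by
        clear hr hp hfg hj ih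
        induction j with
        | zero => rw [pow_one]; exact isSubcomod_ker_fixed hx
        | succ j ih => rw [pow_succ]; exact FreeOrbitPt.isSubcomod_mul ih (isSubcomod_ker_fixed hx)
      have hrey := rey_mem_of_isSubcomod hsubj α hr
      rw [map_sub, hα.rey_eq (f - g).2, ← AlgHom.toLinearMap_apply, ← rey_natural D.isComodHom,
        AlgHom.toLinearMap_apply] at hrey
      obtain ⟨g', hg', hg''⟩ := hgenpos j hj (rey _ α p) (hα.rey_mem p)
        (rey_mem_of_isSubcomod (isSubcomod_homogeneousSubmodule (lin_range D.isLinear) j) α hp)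
      refine ⟨g + g', add_mem hg hg', ?_⟩
      rw [← hg''] at hrey
      rw [sub_add_eq_sub_sub, AddSubgroupClass.coe_sub]
      exact hrey
  obtain ⟨N, hN⟩ : ∃ N, RingHom.ker x ^ N ≤ (y ^ 2).map (algebraMap B R) := by
    refine Ideal.exists_pow_le_of_le_radical_of_fg ?_ (IsNoetherian.noetherian _)
    rw [Ideal.radical_eq_sInf]
    refine le_sInf fun q ⟨hq, hqp⟩ => le_of_eq (eq_ker_of_comap_eq hx q ?_).symm
    refine (hyMax.eq_of_le (Ideal.IsPrime.ne_top (Ideal.comap_isPrime (algebraMap B R) q)) fun z hz => ?_).symm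
    have : z * z ∈ q.comap (algebraMap B R) :=
      Ideal.mem_comap.2 (hq (Ideal.mem_map_of_mem _ (by rw [pow_two]; exact Ideal.mul_mem_mul hz hz)))
    exact (hqp.comap (algebraMap B R)).mem_or_mem this |>.elim id id
  have hyJ : y ≤ J ⊔ y ^ 2 := fun f hf => by
    obtain ⟨g, hg, hfg⟩ := happrox (N + 1) (by omega) f hf
    have h2 : f - g ∈ y ^ 2 := by
      rw [← GITSep.comap_map_eq hG (y ^ 2)]
      exact hN (Ideal.pow_le_pow_right (Nat.le_succ N) hfg)
    exact Submodule.mem_sup.2 ⟨g, hg, f - g, h2, add_sub_cancel _ _⟩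
  have hL : IsLocalRing.maximalIdeal (Localization.AtPrime y) = J.map (algebraMap B (Localization.AtPrime y)) := by
    have hJy : J ≤ y := Ideal.span_le.2 (by
      rintro _ ⟨i, rfl⟩
      obtain ⟨-, e, he, hbe⟩ := hb i
      have hmem : D.toHom (b i) ∈ RingHom.ker x := by
        have hpow : ∀ (d : ℕ) (f : MvPolynomial D.ι k), 0 < d → f.IsHomogeneous d → constantCoeff f = 0 := by
          intro d f hd hf
          have h0 := homogeneousComponent_of_mem (m := 0) hf
          rw [if_neg (by omega), comp_zero_eq_C, C_eq_zero] at h0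
          exact h0
        have hall : ∀ f : MvPolynomial D.ι k, x (D.toHom f) = constantCoeff f := by
          intro f
          induction f using MvPolynomial.induction_on with
          | C a => simp
          | add p q hp hq => simp only [map_add, hp, hq]
          | mul_X p i hp => simp [map_mul, RingHom.mem_ker.1 (D.mem i)]
        rw [RingHom.mem_ker, hall, hpow e _ he hbe]
      exact hmem)
    rw [← Localization.AtPrime.map_eq_maximalIdeal]
    refine le_antisymm ?_ (Ideal.map_mono hJy)
    refine Submodule.le_of_le_smul_of_le_jacobson_bot (I := IsLocalRing.maximalIdeal (Localization.AtPrime y))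
      (IsNoetherian.noetherian _) (IsLocalRing.maximalIdeal_le_jacobson _) ?_
    refine (Ideal.map_mono hyJ).trans ?_
    rw [Ideal.map_sup, pow_two, Ideal.map_mul, ← Localization.AtPrime.map_eq_maximalIdeal]
    exact le_rfl
  haveI : IsNoetherianRing (Localization.AtPrime y) := IsLocalization.isNoetherianRing y.primeCompl _ inferInstance
  refine IsRegularLocalRing.of_spanFinrank_maximalIdeal_le _ ?_
  have h1 : (IsLocalRing.maximalIdeal (Localization.AtPrime y)).spanFinrank ≤ Nat.card D.ι := by
    rw [hL, Ideal.map_span, ← Set.range_comp]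
    exact (Submodule.spanFinrank_span_le_ncard_of_finite (Set.finite_range _)).trans
      ((Finite.card_range_le _).trans (Nat.card_fin _).le)
  haveI : ((RingHom.ker x).comap (algebraMap B R)).IsPrime := hy ▸ ‹y.IsPrime›
  have h2 : (Nat.card D.ι : ℕ∞) ≤ y.height := by
    rw [D.card_eq]
    exact (finrank_cotSpace_le x).2.trans (height_ker_le x)
  rw [IsLocalization.AtPrime.ringKrullDim_eq_height y (Localization.AtPrime y)]
  calc ((IsLocalRing.maximalIdeal (Localization.AtPrime y)).spanFinrank : WithBot ℕ∞) ≤ ((Nat.card D.ι : ℕ∞) : WithBot ℕ∞) := by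
        exact_mod_cast h1
    _ ≤ (y.height : WithBot ℕ∞) := WithBot.coe_le_coe.2 h2

end Groth.L08.CST
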