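import Groth.Agent.L08.InvFinite
import Groth.Agent.L08.Pullback
import Groth.Agent.L08.FreeOrbitPt
import Groth.Agent.L08.Dual
import Groth.Prelude.Def_W4c6stackyreslrsPsRefl
import Mathlib.RingTheory.HopfAlgebra.Quotient
import Mathlib.LinearAlgebra.Basis.VectorSpace

/-!
# Pseudo-reflections divide differences; vectors fixed by pseudo-reflections
-/

set_option autoImplicit false

universe u

open TensorProduct

noncomputable section

namespace Groth.L08.CST

open Groth.L08

variable {k : Type u} [Field k] {A : Type u} [CommRing A] [HopfAlgebra k A]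
  {ι : Type u} [Fintype ι] [HopfRep.Comod k A (MvPolynomial ι k)] [GLin.IsCoactAlg k A (MvPolynomial ι k)]

local notation "S" => MvPolynomial ι k

omit [Fintype ι] in
theorem eq_of_forall_dual {W : Type u} [AddCommGroup W] [Module k W] {a b : W}
    (h : ∀ φ : W →ₗ[k] k, φ a = φ b) : a = b :=
  sub_eq_zero.1 ((Module.forall_dual_apply_eq_zero_iff k _).1 fun φ => by rw [map_sub, h, sub_self])

/-- the difference of the coaction and the trivial one, modulo an ideal -/
def dif (I : Ideal A) : S →ₗ[k] S ⊗[k] (A ⧸ I) :=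
  (Ideal.Quotient.mkₐ k I).toLinearMap.lTensor S ∘ₗ HopfRep.Comod.coact (k := k) (A := A) -
    (TensorProduct.mk k S (A ⧸ I)).flip 1

omit [Fintype ι] [GLin.IsCoactAlg k A S] in
theorem dif_apply (I : Ideal A) (f : S) :
    dif I f = (Ideal.Quotient.mkₐ k I).toLinearMap.lTensor S (HopfRep.Comod.coact (k := k) (A := A) f) -
      f ⊗ₜ[k] (1 : A ⧸ I) := rfl

omit [GLin.IsCoactAlg k A S] in
theorem lin_range (hlin : GLin.IsLinear k A ι) (i : ι) :
    HopfRep.Comod.coact (k := k) (A := A) (MvPolynomial.X i : S) ∈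
      LinearMap.range ((MvPolynomial.homogeneousSubmodule ι k 1).subtype.rTensor A) := by
  obtain ⟨m, hm⟩ := hlin i
  rw [hm]
  exact sum_mem fun j _ => ⟨⟨MvPolynomial.X j, MvPolynomial.isHomogeneous_X k j⟩ ⊗ₜ[k] m j, rfl⟩

/-- A pseudo-reflection changes polynomials by multiples of a linear form. -/
theorem exists_refl_form (hlin : GLin.IsLinear k A ι) (I : Ideal A) [I.IsHopfIdeal k]
    (hI : HopfRep.IsLinearlyReductive k (A ⧸ I))
    (hp : Module.finrank k ↥(GLin.linForms k ι ⊓ GLin.quotInvariants k A S I) + 1 =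
      Module.finrank k ↥(GLin.linForms k ι)) :
    ∃ l : S, l.IsHomogeneous 1 ∧ l ≠ 0 ∧
      ∀ f : S, ∃ D : S ⊗[k] (A ⧸ I), dif I f = (l ⊗ₜ[k] 1) * D := by
  classical
  let q : A →ₐc[k] A ⧸ I := Bialgebra.Quotient.mkBialgHom I
  letI c' : HopfRep.Comod k (A ⧸ I) S := push q.toCoalgHom ‹HopfRep.Comod k A S›
  have hc : ∀ f : S, HopfRep.Comod.coact (k := k) (A := A ⧸ I) f =
      (Ideal.Quotient.mkₐ k I).toLinearMap.lTensor S (HopfRep.Comod.coact (k := k) (A := A) f) := fun f => rfl
  set V := GLin.linForms k ι with hV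
  set W := V ⊓ GLin.quotInvariants k A S I with hW
  have hVsub : HopfRep.IsSubcomod (k := k) (A := A ⧸ I) V := fun v hv => by
    obtain ⟨y, hy⟩ := isSubcomod_homogeneousSubmodule (lin_range hlin) 1 v hv
    refine ⟨(Ideal.Quotient.mkₐ k I).toLinearMap.lTensor V y, ?_⟩
    rw [hc, ← hy, ← LinearMap.comp_apply, LinearMap.rTensor_comp_lTensor, ← LinearMap.comp_apply,
      LinearMap.lTensor_comp_rTensor]
  have hWsub : HopfRep.IsSubcomod (k := k) (A := A ⧸ I) W := fun w hw => by
    refine ⟨(⟨w, hw⟩ : W) ⊗ₜ[k] 1, ?_⟩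
    rw [hc, (GLin.mem_quotInvariants_iff k A S I w).1 hw.2]
    rfl
  obtain ⟨W', hW'sub, hWW'⟩ := isSemisimpleComod_of_isLinearlyReductive hI S W hWsub
  let L := W' ⊓ V
  have hLsub : HopfRep.IsSubcomod (k := k) (A := A ⧸ I) L := isSubcomod_inf hW'sub hVsub
  have hWV : W ≤ V := inf_le_left
  have hsup : W ⊔ L = V := by
    rw [show L = W' ⊓ V from rfl, ← sup_inf_assoc_of_le W' hWV, hWW'.sup_eq_top, top_inf_eq]
  have hinf : W ⊓ L = ⊥ := by
    rw [show L = W' ⊓ V from rfl, ← inf_assoc, hWW'.inf_eq_bot, bot_inf_eq]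
  haveI : Module.Finite k V := Module.Finite.iff_fg.2 (by
    rw [hV, GLin.linForms, MvPolynomial.homogeneousSubmodule_one_eq_span_X]
    exact Submodule.fg_span (Set.finite_range _))
  haveI : Module.Finite k W := Submodule.finiteDimensional_of_le hWV
  haveI : Module.Finite k L := Submodule.finiteDimensional_of_le (inf_le_right : L ≤ V)
  have hdim : Module.finrank k L = 1 := by
    have h := Submodule.finrank_sup_add_finrank_inf_eq W L
    rw [hsup, hinf, finrank_bot] at h
    have hp' : Module.finrank k W + 1 = Module.finrank k V := hp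
    omega
  obtain ⟨⟨l, hlL⟩, hl0, hspan⟩ := finrank_eq_one_iff'.1 hdim
  have hne : l ≠ 0 := fun h => hl0 (Subtype.ext h)
  have hL : ∀ x ∈ L, ∃ a : k, a • l = x := fun x hx => by
    obtain ⟨a, ha⟩ := hspan ⟨x, hx⟩
    exact ⟨a, congrArg Subtype.val ha⟩
  refine ⟨l, (inf_le_right : L ≤ V) hlL, hne, ?_⟩
  let J : Ideal (S ⊗[k] (A ⧸ I)) := Ideal.span {l ⊗ₜ[k] (1 : A ⧸ I)}
  have hl1 : ∀ z : S ⊗[k] (A ⧸ I), z ∈ LinearMap.range (L.subtype.rTensor (A ⧸ I)) → z ∈ J := by
    rintro _ ⟨y, rfl⟩
    induction y with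
    | zero => simp
    | add a b ha hb => rw [map_add]; exact add_mem ha hb
    | tmul x a =>
      obtain ⟨r, hr⟩ := hL x.1 x.2
      refine Ideal.mem_span_singleton'.2 ⟨algebraMap k S r ⊗ₜ[k] a, ?_⟩
      rw [Algebra.TensorProduct.tmul_mul_tmul, mul_one, ← Algebra.smul_def, hr]
      rfl
  let Φ : S →ₐ[k] (S ⊗[k] (A ⧸ I)) ⧸ J := (Ideal.Quotient.mkₐ k J).comp
    ((Algebra.TensorProduct.map (AlgHom.id k S) (Ideal.Quotient.mkₐ k I)).comp (GLin.coactAlgHom k A S))
  let Ψ : S →ₐ[k] (S ⊗[k] (A ⧸ I)) ⧸ J :=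
    (Ideal.Quotient.mkₐ k J).comp (Algebra.TensorProduct.includeLeft : S →ₐ[k] S ⊗[k] (A ⧸ I))
  have hmapEq : ∀ z : S ⊗[k] A, Algebra.TensorProduct.map (AlgHom.id k S) (Ideal.Quotient.mkₐ k I) z =
      (Ideal.Quotient.mkₐ k I).toLinearMap.lTensor S z := fun z => by
    induction z with
    | zero => simp
    | add a b ha hb => simp only [map_add, ha, hb]
    | tmul a b => simp
  have hagree : ∀ v ∈ V, Φ v = Ψ v := fun v hv => by
    rw [← hsup] at hv
    obtain ⟨w, hw, x, hx, rfl⟩ := Submodule.mem_sup.1 hv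
    rw [map_add, map_add]
    congr 1
    · show Ideal.Quotient.mk J _ = Ideal.Quotient.mk J _
      congr 1
      show Algebra.TensorProduct.map (AlgHom.id k S) (Ideal.Quotient.mkₐ k I) (GLin.coactAlgHom k A S w) = w ⊗ₜ[k] 1
      rw [hmapEq, GLin.coactAlgHom_apply, (GLin.mem_quotInvariants_iff k A S I w).1 hw.2]
    · show Ideal.Quotient.mk J _ = Ideal.Quotient.mk J _
      rw [Ideal.Quotient.eq]
      refine sub_mem ?_ ?_
      · refine hl1 _ ?_
        obtain ⟨y, hy⟩ := hLsub x hx
        refine ⟨y, ?_⟩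
        show _ = Algebra.TensorProduct.map (AlgHom.id k S) (Ideal.Quotient.mkₐ k I) (GLin.coactAlgHom k A S x)
        rw [hmapEq, hy, hc, GLin.coactAlgHom_apply]
      · exact hl1 _ ⟨(⟨x, hx⟩ : L) ⊗ₜ[k] 1, rfl⟩
  have hΦΨ : Φ = Ψ := MvPolynomial.algHom_ext fun i => hagree _ (MvPolynomial.isHomogeneous_X k i)
  intro f
  have h : Φ f = Ψ f := by rw [hΦΨ]
  change Ideal.Quotient.mk J _ = Ideal.Quotient.mk J _ at h
  rw [Ideal.Quotient.eq, Ideal.mem_span_singleton'] at h
  obtain ⟨D, hD⟩ := h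
  refine ⟨D, ?_⟩
  rw [dif_apply, mul_comm, hD]
  show _ = Algebra.TensorProduct.map (AlgHom.id k S) (Ideal.Quotient.mkₐ k I) (GLin.coactAlgHom k A S f) - f ⊗ₜ[k] 1
  rw [hmapEq, GLin.coactAlgHom_apply]

omit [Fintype ι] [GLin.IsCoactAlg k A S] in
/-- Modulo a subcomodule, a vector fixed by all pseudo-reflections is fixed by the group they generate. -/
theorem mem_range_of_fixed_refl (hgen : GLin.IsGenByPseudoRefl k A ι) (N : Submodule k S)
    (hN : HopfRep.IsSubcomod (k := k) (A := A) N) (v : S)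
    (hv : ∀ I : Ideal A, GLin.IsPseudoRefl k A ι I → ∀ φ : A ⧸ I →ₗ[k] k,
      TensorProduct.rid k S (φ.lTensor S (dif I v)) ∈ N) :
    HopfRep.Comod.coact (k := k) (A := A) v - v ⊗ₜ[k] (1 : A) ∈ LinearMap.range (N.subtype.rTensor A) := by
  classical
  obtain ⟨C, hC⟩ := Submodule.exists_isCompl N
  let P : S →ₗ[k] S := C.subtype ∘ₗ C.projectionOnto N hC.symm
  have hP : ∀ f, f - P f ∈ N := fun f => by
    have hmem : f ∈ N ⊔ C := by rw [hC.sup_eq_top]; trivial
    obtain ⟨n, hn, c, hc, rfl⟩ := Submodule.mem_sup.1 hmem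
    have h1 : P (n + c) = c := by
      simp only [P, LinearMap.comp_apply, map_add,
        (Submodule.projectionOnto_apply_eq_zero_iff hC.symm).2 hn]
      rw [show C.projectionOnto N hC.symm c = ⟨c, hc⟩ from
        Submodule.projectionOnto_apply_left hC.symm ⟨c, hc⟩]
      simp
    rw [h1]; simpa using hn
  have hPN : ∀ n ∈ N, P n = 0 := fun n hn => by
    simp [P, (Submodule.projectionOnto_apply_eq_zero_iff hC.symm).2 hn]
  set x := HopfRep.Comod.coact (k := k) (A := A) v - v ⊗ₜ[k] (1 : A) with hx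
  let J : Ideal A := Ideal.span (Set.range fun g : Module.Dual k S =>
    cf (A := A) (g ∘ₗ P) v - algebraMap k A (g (P v)))
  have hxJ : P.rTensor A x ∈ LinearMap.range (LinearMap.lTensor S (J.restrictScalars k).subtype) := by
    refine (mem_range_lTensor_subtype_iff _ _).2 fun g => ?_
    rw [← LinearMap.rTensor_comp_apply, hx, map_sub, map_sub, LinearMap.rTensor_tmul, TensorProduct.lid_tmul,
      LinearMap.comp_apply, ← Algebra.algebraMap_eq_smul_one]
    exact Ideal.subset_span ⟨g, rfl⟩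
  obtain ⟨y, hy⟩ := hxJ
  have hxN : x - P.rTensor A x ∈ LinearMap.range (N.subtype.rTensor A) := by
    refine ⟨((LinearMap.id - P).codRestrict N hP).rTensor A x, ?_⟩
    rw [← LinearMap.rTensor_comp_apply]
    show (LinearMap.id - P).rTensor A x = _
    rw [LinearMap.rTensor_sub, LinearMap.sub_apply, LinearMap.rTensor_id_apply]
  obtain ⟨z, hz⟩ := hxN
  have hmodJ : HopfRep.Comod.coact (k := k) (A := A) v = v ⊗ₜ[k] (1 : A) +
      ((J.restrictScalars k).subtype.lTensor S y + N.subtype.rTensor A z) := by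
    rw [hy, hz, hx]; abel
  have hcfN : ∀ (g : Module.Dual k S) (n : N), cf (A := A) (g ∘ₗ P) (n : S) = 0 := fun g n => by
    obtain ⟨w, hw⟩ := hN n n.2
    have h0 : (g ∘ₗ P) ∘ₗ N.subtype = 0 := LinearMap.ext fun m => by simp [hPN m.1 m.2]
    rw [cf_apply, ← hw, ← LinearMap.rTensor_comp_apply, h0, LinearMap.rTensor_zero, LinearMap.zero_apply, map_zero]
  have hΔ : ∀ g : Module.Dual k S, Coalgebra.comul (R := k) (cf (A := A) (g ∘ₗ P) v) =
      cf (A := A) (g ∘ₗ P) v ⊗ₜ[k] (1 : A) +
        (cf (A := A) (g ∘ₗ P)).rTensor A ((J.restrictScalars k).subtype.lTensor S y) := by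
    intro g
    have h := LinearMap.congr_fun (isComodHom_cf (A := A) (g ∘ₗ P)) v
    simp only [LinearMap.comp_apply] at h
    refine h.trans ?_
    rw [hmodJ, map_add, map_add, LinearMap.rTensor_tmul, ← LinearMap.rTensor_comp_apply _ _ _ z,
      show cf (A := A) (g ∘ₗ P) ∘ₗ N.subtype = 0 from LinearMap.ext fun n => hcfN g n,
      LinearMap.rTensor_zero, LinearMap.zero_apply, add_zero]
  haveI hHopf : J.IsHopfIdeal k := by
    refine { toIsCoideal := ⟨fun a ha => ?_, fun a ha => ?_⟩, antipode_mem := fun a ha => ?_ }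
    · have : J ≤ RingHom.ker (Bialgebra.counitAlgHom k A) := by
        refine Ideal.span_le.2 ?_
        rintro _ ⟨g, rfl⟩
        simp [RingHom.mem_ker, apply_cf, fAct_counit]
      exact this ha
    · have : J ≤ RingHom.ker ((Algebra.TensorProduct.map (Ideal.Quotient.mkₐ k J) (Ideal.Quotient.mkₐ k J)).comp
          (Bialgebra.comulAlgHom k A)) := by
        refine Ideal.span_le.2 ?_
        rintro _ ⟨g, rfl⟩
        have hq : ∀ z : S ⊗[k] J.restrictScalars k,
            Algebra.TensorProduct.map (Ideal.Quotient.mkₐ k J) (Ideal.Quotient.mkₐ k J)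
              ((cf (A := A) (g ∘ₗ P)).rTensor A ((J.restrictScalars k).subtype.lTensor _ z)) = 0 := by
          intro z
          induction z using TensorProduct.induction_on with
          | zero => simp
          | add a b ha hb => simp only [map_add, ha, hb, add_zero]
          | tmul a b => simp [Ideal.Quotient.eq_zero_iff_mem.2 b.2]
        have hg : Ideal.Quotient.mkₐ k J (cf (A := A) (g ∘ₗ P) v - algebraMap k A (g (P v))) = 0 :=
          Ideal.Quotient.eq_zero_iff_mem.2 (Ideal.subset_span ⟨g, rfl⟩)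
        rw [map_sub, AlgHom.commutes, sub_eq_zero] at hg
        rw [SetLike.mem_coe, RingHom.mem_ker, map_sub, AlgHom.commutes, AlgHom.comp_apply,
          Bialgebra.comulAlgHom_apply, hΔ, map_add, hq, add_zero, Algebra.TensorProduct.map_tmul,
          hg, map_one, Algebra.TensorProduct.algebraMap_apply, sub_self]
      exact this ha
    · have : J ≤ J.comap (HopfAlgebra.antipodeAlgHom k A) := by
        refine Ideal.span_le.2 ?_
        rintro _ ⟨g, rfl⟩
        have hq : ∀ z : S ⊗[k] J.restrictScalars k,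
            LinearMap.mul' k A ((HopfAlgebraStruct.antipode (R := k)).rTensor A
              ((cf (A := A) (g ∘ₗ P)).rTensor A ((J.restrictScalars k).subtype.lTensor _ z))) ∈ J := by
          intro z
          induction z using TensorProduct.induction_on with
          | zero => simp
          | add a b ha hb => simp only [map_add]; exact add_mem ha hb
          | tmul a b => simpa using J.mul_mem_left _ b.2
        have h := HopfAlgebra.mul_antipode_rTensor_comul_apply (R := k) (cf (A := A) (g ∘ₗ P) v)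
        rw [hΔ, map_add, map_add, LinearMap.rTensor_tmul, LinearMap.mul'_apply, mul_one, apply_cf,
          fAct_counit, LinearMap.id_apply, LinearMap.comp_apply] at h
        rw [SetLike.mem_coe, Ideal.mem_comap, map_sub, AlgHom.commutes]
        have h' : HopfAlgebra.antipodeAlgHom k A (cf (A := A) (g ∘ₗ P) v) - algebraMap k A (g (P v))
            = - LinearMap.mul' k A ((HopfAlgebraStruct.antipode (R := k)).rTensor A
              ((cf (A := A) (g ∘ₗ P)).rTensor A ((J.restrictScalars k).subtype.lTensor _ y))) := by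
          rw [← h]; simp
        rw [h']
        exact neg_mem (hq y)
      exact this ha
  have hle : J ≤ GLin.genIdeal k A ι := le_sSup ⟨hHopf, fun I hI => Ideal.span_le.2 (by
    rintro _ ⟨g, rfl⟩
    rw [SetLike.mem_coe, ← Ideal.Quotient.eq_zero_iff_mem]
    refine eq_of_forall_dual (k := k) fun φ => ?_
    rw [map_zero]
    have h := hPN _ (hv I hI φ)
    have key : ∀ w : S ⊗[k] A, φ (Ideal.Quotient.mkₐ k I (TensorProduct.lid k A ((g ∘ₗ P).rTensor A w))) =
        g (P (TensorProduct.rid k S (φ.lTensor S ((Ideal.Quotient.mkₐ k I).toLinearMap.lTensor S w)))) := by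
      intro w
      induction w with
      | zero => simp
      | add a b ha hb => simp only [map_add, ha, hb]
      | tmul a b => simp [mul_comm]
    rw [dif_apply, map_sub, map_sub, map_sub, LinearMap.lTensor_tmul, TensorProduct.rid_tmul, map_smul,
      sub_eq_zero] at h
    show φ (Ideal.Quotient.mkₐ k I (cf (A := A) (g ∘ₗ P) v - algebraMap k A (g (P v)))) = 0
    rw [map_sub, map_sub, cf_apply, key, h, map_smul, AlgHom.commutes, Algebra.algebraMap_eq_smul_one,
      map_smul, smul_eq_mul, smul_eq_mul, mul_comm, sub_self])⟩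
  have hJ : J = ⊥ := le_bot_iff.1 (hgen ▸ hle)
  have hy0 : (J.restrictScalars k).subtype.lTensor S y = 0 := by
    have h0 : (J.restrictScalars k).subtype = 0 := LinearMap.ext fun w => by
      have hw : w.1 ∈ J := w.2
      show w.1 = 0
      exact Ideal.mem_bot.1 (hJ.le hw)
    rw [h0, LinearMap.lTensor_zero, LinearMap.zero_apply]
  exact ⟨z, by rw [hx, hmodJ, hy0, zero_add, add_sub_cancel_left]⟩

end Groth.L08.CST
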